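import Mathlib

/-!
A presentation of the additive group of a finite field as the orbit of one generator under a
cyclic group acting as multiplication by a primitive element.
-/

set_option autoImplicit false

namespace Cfsg.Agent.Lib.SL3Presentation

open Polynomial

variable {G : Type*} [Group G]

/-- conjugates of `u` by powers of `d` -/
def orb (u d : G) (n : ℤ) : G := d ^ n * u * (d ^ n)⁻¹

theorem orb_zero (u d : G) : orb u d 0 = u := by simp [orb]

theorem orb_shift (u d : G) (k n : ℤ) : d ^ k * orb u d n * (d ^ k)⁻¹ = orb u d (k + n) := by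
  simp only [orb, zpow_add]; group

theorem commute_orb_shift {u d : G} {m n : ℤ} (h : Commute u (orb u d (n - m))) :
    Commute (orb u d m) (orb u d n) := by
  have := h.conj (d ^ m)
  have e1 : d ^ m * u * (d ^ m)⁻¹ = orb u d m := rfl
  rw [e1, orb_shift, add_sub_cancel] at this
  exact this

theorem commute_orb_neg {u d : G} {n : ℤ} (h : Commute u (orb u d n)) : Commute u (orb u d (-n)) := by
  have := commute_orb_shift (m := -n) (n := 0) (u := u) (d := d) (by simpa using h)
  rw [orb_zero] at this
  exact this.symm

section triangle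

variable {u d : G} {b : ℤ} (hR : d * u * d⁻¹ = u * orb u d b) (hC : Commute u (orb u d b))
include hR

theorem orb_succ (n : ℤ) : orb u d (n + 1) = orb u d n * orb u d (n + b) := by
  have h1 : orb u d 1 = u * orb u d b := by rw [← hR]; simp [orb]
  calc orb u d (n + 1) = d ^ n * orb u d 1 * (d ^ n)⁻¹ := (orb_shift u d n 1).symm
    _ = (d ^ n * u * (d ^ n)⁻¹) * (d ^ n * orb u d b * (d ^ n)⁻¹) := by rw [h1]; group
    _ = orb u d n * orb u d (n + b) := by rw [orb_shift]; rfl

include hC

/-- any two of a triangle of conjugates determine the commutation with the third -/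
theorem tri_b {n : ℤ} (h0 : Commute u (orb u d n)) (h1 : Commute u (orb u d (n + 1))) :
    Commute u (orb u d (n + b)) := by
  have e : orb u d (n + b) = (orb u d n)⁻¹ * orb u d (n + 1) := by rw [orb_succ hR]; group
  rw [e]; exact h0.inv_right.mul_right h1

theorem tri_one {n : ℤ} (h0 : Commute u (orb u d n)) (hb : Commute u (orb u d (n + b))) :
    Commute u (orb u d (n + 1)) := by
  rw [orb_succ hR]; exact h0.mul_right hb

theorem tri_zero {n : ℤ} (h1 : Commute u (orb u d (n + 1))) (hb : Commute u (orb u d (n + b))) :
    Commute u (orb u d n) := by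
  have e : orb u d n = orb u d (n + 1) * (orb u d (n + b))⁻¹ := by rw [orb_succ hR]; group
  rw [e]; exact h1.mul_right hb.inv_right

theorem commute_hexagon : ∀ r : ℕ, ∀ i j : ℤ, |i| ≤ r → |j| ≤ r → |i + j| ≤ r →
    Commute u (orb u d (i + j * b)) := by
  have h1 : Commute u (orb u d 1) := by
    have e : orb u d 1 = u * orb u d b := by rw [← hR]; simp [orb]
    rw [e]; exact (Commute.refl u).mul_right hC
  have hd : Commute u (orb u d (b - 1)) := by
    have a1 : Commute (orb u d 1) (orb u d b) := by
      have e : orb u d 1 = u * orb u d b := by rw [← hR]; simp [orb]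
      rw [e]; exact hC.mul_left (Commute.refl _)
    have := a1.conj (d ^ (-1 : ℤ))
    rw [orb_shift, orb_shift] at this
    have e0 : (-1 : ℤ) + 1 = 0 := by norm_num
    rw [e0, orb_zero, neg_add_eq_sub] at this
    exact this
  intro r
  induction r with
  | zero =>
    intro i j hi hj _
    have : i = 0 := by simpa using hi
    have : j = 0 := by simpa using hj
    subst i; subst j
    simp [orb_zero]
  | succ r ih =>
    intro i j hi hj hij
    rw [Nat.cast_succ] at hi hj hij
    rcases Nat.eq_zero_or_pos r with rfl | hr
    · rw [Nat.cast_zero, zero_add, abs_le] at hi hj hij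
      obtain ⟨hi1, hi2⟩ := hi
      obtain ⟨hj1, hj2⟩ := hj
      interval_cases i <;> interval_cases j <;> first | (exfalso; omega) | norm_num
      · exact commute_orb_neg h1
      · rw [neg_add_eq_sub]; exact hd
      · exact commute_orb_neg hC
      · simp [orb_zero]
      · exact hC
      · rw [← sub_eq_add_neg, ← neg_sub]; exact commute_orb_neg hd
      · exact h1
    · have hr1 : (1 : ℤ) ≤ r := by exact_mod_cast hr
      set R : ℤ := (r : ℤ) with hRdef
      have inner : ∀ i j : ℤ, |i| ≤ R → |j| ≤ R → |i + j| ≤ R → Commute u (orb u d (i + j * b)) := ih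
      have neg : ∀ i j : ℤ, Commute u (orb u d (-i + -j * b)) → Commute u (orb u d (i + j * b)) := by
        intro i j h
        have h' := commute_orb_neg h
        have e : -(-i + -j * b) = i + j * b := by ring
        rwa [e] at h'
      -- three open sides
      have sA : ∀ i : ℤ, -R ≤ i → i ≤ -1 → Commute u (orb u d (i + (R + 1) * b)) := by
        intro i a1 a2
        have p0 := inner i R (by rw [abs_le]; omega) (by rw [abs_le]; omega) (by rw [abs_le]; omega)
        have p1 := inner (i + 1) R (by rw [abs_le]; omega) (by rw [abs_le]; omega) (by rw [abs_le]; omega)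
        rw [add_right_comm] at p1
        have := tri_b hR hC p0 p1
        have e : i + R * b + b = i + (R + 1) * b := by ring
        rwa [e] at this
      have sB : ∀ j : ℤ, -R ≤ j → j ≤ -1 → Commute u (orb u d (R + 1 + j * b)) := by
        intro j a1 a2
        have p0 := inner R j (by rw [abs_le]; omega) (by rw [abs_le]; omega) (by rw [abs_le]; omega)
        have pb := inner R (j + 1) (by rw [abs_le]; omega) (by rw [abs_le]; omega) (by rw [abs_le]; omega)
        have e : R + (j + 1) * b = R + j * b + b := by ring
        rw [e] at pb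
        have := tri_one hR hC p0 pb
        rwa [add_right_comm] at this
      have sC : ∀ i j : ℤ, i + j = -(R + 1) → i ≤ -1 → j ≤ -1 → Commute u (orb u d (i + j * b)) := by
        intro i j a0 a1 a2
        have p1 := inner (i + 1) j (by rw [abs_le]; omega) (by rw [abs_le]; omega) (by rw [abs_le]; omega)
        have pb := inner i (j + 1) (by rw [abs_le]; omega) (by rw [abs_le]; omega) (by rw [abs_le]; omega)
        rw [add_right_comm] at p1
        have e : i + (j + 1) * b = i + j * b + b := by ring
        rw [e] at pb
        exact tri_zero hR hC p1 pb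
      have sC' : ∀ i j : ℤ, i + j = R + 1 → 1 ≤ i → 1 ≤ j → Commute u (orb u d (i + j * b)) :=
        fun i j a0 a1 a2 => neg i j (sC (-i) (-j) (by omega) (by omega) (by omega))
      have sA' : ∀ i : ℤ, 1 ≤ i → i ≤ R → Commute u (orb u d (i + -(R + 1) * b)) := fun i a1 a2 =>
        neg i (-(R + 1)) (by
          have := sA (-i) (by omega) (by omega)
          rwa [neg_neg])
      have sB' : ∀ j : ℤ, 1 ≤ j → j ≤ R → Commute u (orb u d (-(R + 1) + j * b)) := fun j a1 a2 =>
        neg (-(R + 1)) j (by
          have := sB (-j) (by omega) (by omega)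
          rwa [neg_neg])
      -- corners
      have c1 : Commute u (orb u d (R + 1)) := by
        have p0 := inner R 0 (by rw [abs_le]; omega) (by simp; omega) (by rw [abs_le]; omega)
        have pb := sC' R 1 rfl hr1 le_rfl
        simp only [zero_mul, add_zero, one_mul] at p0 pb
        exact tri_one hR hC p0 pb
      have c2 : Commute u (orb u d ((R + 1) * b)) := by
        have p0 := inner 0 R (by simp; omega) (by rw [abs_le]; omega) (by rw [abs_le]; omega)
        have p1 := sC' 1 R (by omega) le_rfl hr1
        rw [zero_add] at p0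
        rw [add_comm] at p1
        have := tri_b hR hC p0 p1
        have e : R * b + b = (R + 1) * b := by ring
        rwa [e] at this
      have c3 : Commute u (orb u d (-(R + 1) + (R + 1) * b)) := by
        have p0 := sB' R hr1 le_rfl
        have p1 := inner (-R) R (by rw [abs_le]; omega) (by rw [abs_le]; omega) (by simp; omega)
        have e : -R + R * b = -(R + 1) + R * b + 1 := by ring
        rw [e] at p1
        have := tri_b hR hC p0 p1
        have e' : -(R + 1) + R * b + b = -(R + 1) + (R + 1) * b := by ring
        rwa [e'] at this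
      rw [abs_le] at hi hj hij
      by_cases hin : |i| ≤ R ∧ |j| ≤ R ∧ |i + j| ≤ R
      · exact inner i j hin.1 hin.2.1 hin.2.2
      rw [not_and, not_and, abs_le, abs_le, abs_le] at hin
      by_cases hj1 : j = R + 1
      · subst hj1
        rcases eq_or_ne i 0 with rfl | hi0
        · simpa using c2
        rcases eq_or_ne i (-(R + 1)) with rfl | hi1
        · exact c3
        exact sA i (by omega) (by omega)
      by_cases hj2 : j = -(R + 1)
      · subst hj2
        rcases eq_or_ne i 0 with rfl | hi0
        · exact neg 0 _ (by simpa using c2)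
        rcases eq_or_ne i (R + 1) with rfl | hi1
        · exact neg _ _ (by simpa only [neg_neg] using c3)
        exact sA' i (by omega) (by omega)
      by_cases hi1 : i = R + 1
      · subst hi1
        rcases eq_or_ne j 0 with rfl | hj0
        · simpa using c1
        exact sB j (by omega) (by omega)
      by_cases hi2 : i = -(R + 1)
      · subst hi2
        rcases eq_or_ne j 0 with rfl | hj0
        · simpa using commute_orb_neg c1
        exact sB' j (by omega) (by omega)
      by_cases hs : i + j = R + 1
      · exact sC' i j hs (by omega) (by omega)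
      · exact sC i j (by omega) (by omega) (by omega)

/-- All conjugates of `u` by powers of `d` commute. -/
theorem commute_orb (m n : ℤ) : Commute (orb u d m) (orb u d n) := by
  refine commute_orb_shift ?_
  have := commute_hexagon hR hC (n - m).natAbs (n - m) 0 (by rw [Int.natCast_natAbs])
    (by simp) (by rw [add_zero, Int.natCast_natAbs])
  simpa using this

end triangle

section field

variable {F : Type*} [Field F] (p : ℕ) [Fact p.Prime] [CharP F p]

/-- The word `∏ yⁱ x^(mᵢ) y⁻ⁱ` of a polynomial with coefficients `mᵢ`. -/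
def polyWord (m : (ZMod p)[X]) (x y : G) : G :=
  ((List.range (m.natDegree + 1)).map fun i => y ^ i * x ^ (m.coeff i).val * (y ^ i)⁻¹).prod

theorem map_polyWord {H : Type*} [Group H] (f : G →* H) (m : (ZMod p)[X]) (x y : G) :
    f (polyWord p m x y) = polyWord p m (f x) (f y) := by
  simp only [polyWord, map_list_prod, List.map_map]
  congr 1
  refine List.map_congr_left fun i _ => ?_
  simp

/-- Evaluation of `polyWord` through an additive family. -/
theorem polyWord_eq_of_hom {A : Type*} [AddCommGroup A] [Module (ZMod p) A] (φ : A → G)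
    (hφ : ∀ a a', φ (a + a') = φ a * φ a') {x y : G} {δ : Module.End (ZMod p) A}
    (hconj : ∀ a, y * φ a * y⁻¹ = φ (δ a)) {a0 : A} (ha0 : φ a0 = x) (m : (ZMod p)[X]) :
    polyWord p m x y = φ (Polynomial.aeval δ m a0) := by
  have h0 : φ 0 = 1 := by
    have := hφ 0 0
    rw [add_zero] at this
    exact mul_left_cancel (this.symm.trans (mul_one _).symm)
  have hpow : ∀ (n : ℕ) (a : A), φ (n • a) = φ a ^ n := by
    intro n a
    induction n with
    | zero => simp [h0]
    | succ n ih => rw [succ_nsmul, hφ, ih, pow_succ]
  have hterm : ∀ i : ℕ, y ^ i * x ^ (m.coeff i).val * (y ^ i)⁻¹ = φ (m.coeff i • (δ ^ i) a0) := by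
    intro i
    induction i generalizing a0 x with
    | zero =>
      simp only [pow_zero, one_mul, inv_one, mul_one, Module.End.one_apply]
      rw [← ha0, ← hpow, ← Nat.cast_smul_eq_nsmul (ZMod p), ZMod.natCast_zmod_val]
    | succ i _ =>
      have key : ∀ (j : ℕ) (a : A), y ^ j * φ a * (y ^ j)⁻¹ = φ ((δ ^ j) a) := by
        intro j
        induction j with
        | zero => simp
        | succ j ihj =>
          intro a
          rw [pow_succ' y, pow_succ' δ, Module.End.mul_apply, ← hconj, ← ihj]
          group
      rw [← ha0, ← hpow, key]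
      rw [← Nat.cast_smul_eq_nsmul (ZMod p), map_smul, ZMod.natCast_zmod_val]
  have hsum : ∀ (N : ℕ) (f : ℕ → A), φ (∑ i ∈ Finset.range N, f i) =
      ((List.range N).map fun i => φ (f i)).prod := by
    intro N f
    induction N with
    | zero => simp [h0]
    | succ N ih => rw [Finset.sum_range_succ, hφ, ih, List.range_succ, List.map_append,
        List.prod_append, List.map_singleton, List.prod_singleton]
  rw [aeval_eq_sum_range, LinearMap.sum_apply, hsum, polyWord]
  congr 1
  refine List.map_congr_left fun i _ => ?_
  rw [hterm i, LinearMap.smul_apply]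

variable [Fintype F] [Algebra (ZMod p) F]

/-- Core of `exists_orbit_hom`, for an abstract module of conjugates. -/
theorem exists_orbit_hom_aux {ω : F} (hω : ∀ x : F, x ≠ 0 → ∃ i : ℕ, ω ^ i = x) (b : ℕ) (u d : G)
    (hb : (ω = 1 + ω ^ b ∧ Commute u (orb u d b) ∧ d * u * d⁻¹ = u * orb u d b) ∨ (ω = 1 ∧ d = 1))
    (hD : d ^ (Fintype.card F - 1) = polyWord p (minpoly (ZMod p) ω) u d)
    {A : Type*} [AddCommGroup A] [Module (ZMod p) A] (val : A → G) (δ : Module.End (ZMod p) A) (u0 : A)
    (val_add : ∀ x y, val (x + y) = val x * val y) (val_inj : ∀ x y, val x = val y → x = y)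
    (val_δ : ∀ x, d * val x * d⁻¹ = val (δ x)) (hu0 : val u0 = u) :
    d ^ (Fintype.card F - 1) = 1 ∧ ∃ φ : F → G, (∀ x y, φ (x + y) = φ x * φ y) ∧ φ 1 = u ∧
      ∀ x, d * φ x * d⁻¹ = φ (ω * x) := by
  classical
  have val_zero : val 0 = 1 := by
    have := val_add 0 0
    rw [add_zero] at this
    exact mul_left_cancel (this.symm.trans (mul_one _).symm)
  let L : (ZMod p)[X] → A := fun f => Polynomial.aeval δ f u0
  have L_mul : ∀ f g, L (f * g) = Polynomial.aeval δ f (L g) := fun f g => by
    simp only [L, map_mul, Module.End.mul_apply]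
  set m := minpoly (ZMod p) ω with hm
  have hz : polyWord p m u d = val (L m) := polyWord_eq_of_hom p val val_add val_δ hu0 m
  have hzero : L m = 0 := by
    rcases hb with ⟨-, -, hR⟩ | ⟨hω1, hd1⟩
    · have hfix : δ (L m) = L m := by
        apply val_inj
        rw [← val_δ, ← hz, ← hD]; group
      have hP : L (X - 1 - X ^ b) = 0 := by
        simp only [L, map_sub, map_one, map_pow, aeval_X, LinearMap.sub_apply, Module.End.one_apply]
        rw [sub_sub, sub_eq_zero]
        apply val_inj
        rw [val_add, ← val_δ]
        have key : ∀ j : ℕ, val ((δ ^ j) u0) = orb u d j := by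
          intro j
          induction j with
          | zero => simp [orb, hu0]
          | succ j ihj =>
            rw [pow_succ', Module.End.mul_apply, ← val_δ, ihj]
            have := orb_shift u d 1 j
            rw [zpow_one] at this
            rw [this, Nat.cast_succ, add_comm]
        rw [key b, hu0]
        exact hR
      have h2 : L (m * (X - 1 - X ^ b)) = 0 := by rw [L_mul, hP, map_zero]
      rw [mul_comm, L_mul] at h2
      simp only [map_sub, map_one, map_pow, aeval_X, LinearMap.sub_apply, Module.End.one_apply,
        hfix, sub_self, zero_sub, neg_eq_zero] at h2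
      have hfix' : ∀ j : ℕ, (δ ^ j) (L m) = L m := by
        intro j
        induction j with
        | zero => simp
        | succ j ihj => rw [pow_succ, Module.End.mul_apply, hfix, ihj]
      rwa [hfix'] at h2
    · have hδ : δ = 1 := by
        refine LinearMap.ext fun x => val_inj _ _ ?_
        rw [← val_δ, hd1]; simp
      have e : Polynomial.aeval δ m = algebraMap (ZMod p) _ (m.eval 1) := by
        rw [hδ, ← map_one (algebraMap (ZMod p) (Module.End (ZMod p) (A))),
          Polynomial.aeval_algebraMap_apply]
        simp
      have e1 : m.eval 1 = 0 := by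
        have := minpoly.aeval (ZMod p) ω
        rw [← hm, hω1, ← map_one (algebraMap (ZMod p) F), Polynomial.aeval_algebraMap_apply,
          map_eq_zero] at this
        simpa using this
      show Polynomial.aeval δ m u0 = 0
      rw [e, e1, map_zero, LinearMap.zero_apply]
  refine ⟨?_, ?_⟩
  · rw [hD, hz, hzero, val_zero]
  have hsurj : ∀ x : F, ∃ f : (ZMod p)[X], Polynomial.aeval ω f = x := by
    intro x
    rcases eq_or_ne x 0 with rfl | hx
    · exact ⟨0, map_zero _⟩
    · obtain ⟨i, rfl⟩ := hω x hx
      exact ⟨X ^ i, by simp⟩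
  have hwd : ∀ f g : (ZMod p)[X], Polynomial.aeval ω f = Polynomial.aeval ω g → L f = L g := by
    intro f g h
    have h0 : Polynomial.aeval ω (f - g) = 0 := by rw [map_sub, h, sub_self]
    obtain ⟨k, hk⟩ := minpoly.dvd (ZMod p) ω h0
    rw [← hm, mul_comm] at hk
    have : L (f - g) = 0 := by rw [hk, L_mul, hzero, map_zero]
    simpa [L, sub_eq_zero] using this
  choose s hs using hsurj
  refine ⟨fun x => val (L (s x)), fun x y => ?_, ?_, fun x => ?_⟩
  · rw [← val_add]
    refine congrArg val ?_
    rw [hwd (s (x + y)) (s x + s y) (by rw [map_add, hs, hs, hs])]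
    simp [L]
  · show val (L (s 1)) = u
    rw [hwd (s 1) 1 (by rw [hs, map_one])]
    simp [L, hu0]
  · show d * val (L (s x)) * d⁻¹ = val (L (s (ω * x)))
    rw [val_δ, hwd (s (ω * x)) (X * s x) (by simp [hs]), L_mul, aeval_X]



/-- The generator `u` extends to an additive family indexed by the field, on which `d` acts as
multiplication by the primitive element. -/
theorem exists_orbit_hom {ω : F} (hω : ∀ x : F, x ≠ 0 → ∃ i : ℕ, ω ^ i = x) (b : ℕ) (u d : G)
    (hb : (ω = 1 + ω ^ b ∧ Commute u (orb u d b) ∧ d * u * d⁻¹ = u * orb u d b) ∨ (ω = 1 ∧ d = 1))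
    (hp : u ^ p = 1)
    (hD : d ^ (Fintype.card F - 1) = polyWord p (minpoly (ZMod p) ω) u d) :
    d ^ (Fintype.card F - 1) = 1 ∧ ∃ φ : F → G, (∀ x y, φ (x + y) = φ x * φ y) ∧ φ 1 = u ∧
      ∀ x, d * φ x * d⁻¹ = φ (ω * x) := by
  classical
  have hcomm : ∀ m n : ℤ, Commute (orb u d m) (orb u d n) := by
    rcases hb with ⟨-, hC, hR⟩ | ⟨-, rfl⟩
    · exact commute_orb hR hC
    · intro m n; simp [orb]
  set U : Subgroup G := Subgroup.closure (Set.range (orb u d)) with hUdef
  letI : CommGroup U :=
    { (inferInstance : Group U) with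
      mul_comm := fun x y => Subtype.ext (by
        have h1 : U ≤ Subgroup.centralizer (Set.range (orb u d)) := by
          rw [hUdef, Subgroup.closure_le]
          rintro _ ⟨m, rfl⟩
          rw [SetLike.mem_coe, Subgroup.mem_centralizer_iff]
          rintro _ ⟨n, rfl⟩
          exact hcomm n m
        have h2 : U ≤ Subgroup.centralizer (U : Set G) := by
          rw [hUdef, Subgroup.closure_le]
          rintro _ ⟨m, rfl⟩
          rw [SetLike.mem_coe, Subgroup.mem_centralizer_iff]
          intro z hz
          exact ((Subgroup.mem_centralizer_iff.mp (h1 hz)) _ ⟨m, rfl⟩).symm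
        exact (Subgroup.mem_centralizer_iff.mp (h2 y.2)) _ x.2) }
  have hp' : ∀ x : U, x ^ p = 1 := by
    rintro ⟨x, hx⟩
    apply Subtype.ext
    show x ^ p = 1
    induction hx using Subgroup.closure_induction with
    | mem x hx => obtain ⟨n, rfl⟩ := hx; simp [orb, conj_pow, hp]
    | one => simp
    | mul x y hx hy ihx ihy =>
      have : Commute x y := congrArg Subtype.val (mul_comm (⟨x, hx⟩ : U) ⟨y, hy⟩)
      rw [this.mul_pow, ihx, ihy, one_mul]
    | inv x _ ih => rw [inv_pow, ih, inv_one]
  letI : Module (ZMod p) (Additive U) := AddCommGroup.zmodModule (fun x => hp' (Additive.toMul x))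
  have hd : ∀ x : U, d * (x : G) * d⁻¹ ∈ U := by
    rintro ⟨x, hx⟩
    show d * x * d⁻¹ ∈ U
    induction hx using Subgroup.closure_induction with
    | mem x hx =>
      obtain ⟨n, rfl⟩ := hx
      have := orb_shift u d 1 n
      rw [zpow_one] at this
      rw [this]; exact Subgroup.subset_closure ⟨_, rfl⟩
    | one => simp
    | mul x y _ _ ihx ihy => rw [← conj_mul]; exact U.mul_mem ihx ihy
    | inv x _ ih => rw [show d * x⁻¹ * d⁻¹ = (d * x * d⁻¹)⁻¹ by group]; exact U.inv_mem ih
  let δ0 : Additive U →+ Additive U := MonoidHom.toAdditive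
    { toFun := fun x => (⟨d * x * d⁻¹, hd x⟩ : U)
      map_one' := by ext; simp
      map_mul' := fun x y => by ext; simp [← conj_mul] }
  let δ : Additive U →ₗ[ZMod p] Additive U := δ0.toZModLinearMap p
  let u0 : Additive U := Additive.ofMul ⟨u, Subgroup.subset_closure ⟨0, orb_zero u d⟩⟩
  exact exists_orbit_hom_aux p hω b u d hb hD (fun x : Additive U => ((Additive.toMul x : U) : G)) δ u0
    (fun _ _ => rfl) (fun _ _ h => Additive.toMul.injective (Subtype.ext h)) (fun _ => rfl) rfl

end field

end Cfsg.Agent.Lib.SL3Presentation
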