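import Mathlib
import Cfsg.Agent.Lib.SL3Presentation.Orbit

/-!
Consequences of a short set of relations for `SL₃` over a finite field.
-/

set_option autoImplicit false

namespace Cfsg.Agent.Lib.SL3Presentation

open scoped Pointwise

variable {F : Type*} [Field F] {G : Type*} [Group G]

/-- An additive one-parameter family with the relations used in the presentation of `SL₃`. -/
structure Data (F : Type*) [Field F] (G : Type*) [Group G] where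
  t : G
  c : G
  d : G
  φ : F → G
  ω : F
  p : ℕ
  k : ℕ
  N : ℕ
  hω : ∀ x : F, x ≠ 0 → ∃ i : ℕ, ω ^ i = x
  ω_ne : ω ≠ 0
  ω_pow : ω ^ N = 1
  hk : (p = 2 ∧ k = 0) ∨ (ω ^ k = -1 ∧ 2 * k = N)
  hchar : p = 2 → ∀ x : F, x + x = 0
  φ_add : ∀ x y, φ (x + y) = φ x * φ y
  φ_d : ∀ x, d * φ x * d⁻¹ = φ (ω * x)
  d_pow : d ^ N = 1
  c_cube : c ^ 3 = 1
  d_comm : d * (c * d * c⁻¹) = (c * d * c⁻¹) * d
  d_prod : d * (c * d * c⁻¹) * (c ^ 2 * d * (c ^ 2)⁻¹) = 1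
  d2_u : (c ^ 2 * d * (c ^ 2)⁻¹) * φ 1 * (c ^ 2 * d * (c ^ 2)⁻¹)⁻¹ = φ ω
  t_u : t * φ 1 * t⁻¹ = (φ 1)⁻¹ * t * (φ 1)⁻¹
  t_d : t * d * t⁻¹ = (c ^ 2 * d * (c ^ 2)⁻¹)⁻¹
  t_c : t * c * t⁻¹ * c = (d * (c ^ 2 * d * (c ^ 2)⁻¹)⁻¹) ^ k

namespace Data

variable (D : Data F G)

def d1 : G := D.c * D.d * D.c⁻¹
def d2 : G := D.c ^ 2 * D.d * (D.c ^ 2)⁻¹
def τ : G := (D.d * D.d2⁻¹) ^ D.k
/-- the torus -/
def T : Subgroup G := Subgroup.closure {D.d, D.d1, D.d2}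
def x12 (a : F) : G := D.c * D.φ a * D.c⁻¹
def x10 (a : F) : G := D.t * D.φ (-a) * D.t⁻¹
def x02 (a : F) : G := D.c ^ 2 * D.x10 a * (D.c ^ 2)⁻¹

theorem φ_zero : D.φ 0 = 1 := by
  have := D.φ_add 0 0
  rw [add_zero] at this
  exact mul_left_cancel (this.symm.trans (mul_one _).symm)

theorem φ_neg (a : F) : D.φ (-a) = (D.φ a)⁻¹ :=
  eq_inv_of_mul_eq_one_right (by rw [← D.φ_add, add_neg_cancel, φ_zero])

theorem φ_commute (a b : F) : Commute (D.φ a) (D.φ b) := by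
  show D.φ a * D.φ b = D.φ b * D.φ a
  rw [← D.φ_add, ← D.φ_add, add_comm]

theorem x12_add (a b : F) : D.x12 (a + b) = D.x12 a * D.x12 b := by simp only [x12, D.φ_add]; group
theorem x10_add (a b : F) : D.x10 (a + b) = D.x10 a * D.x10 b := by
  simp only [x10, neg_add, D.φ_add]; group
theorem x02_add (a b : F) : D.x02 (a + b) = D.x02 a * D.x02 b := by simp only [x02, x10_add]; group
theorem x12_zero : D.x12 0 = 1 := by simp [x12, φ_zero]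
theorem x02_zero : D.x02 0 = 1 := by simp [x02, x10, φ_zero]

theorem c_three : D.c * D.c ^ 2 = 1 := by rw [← pow_succ', D.c_cube]
theorem c_inv : D.c⁻¹ = D.c ^ 2 := inv_eq_of_mul_eq_one_right D.c_three

theorem c_d : D.c * D.d * D.c⁻¹ = D.d1 := rfl
theorem c_d1 : D.c * D.d1 * D.c⁻¹ = D.d2 := by simp only [d1, d2, pow_two]; group
theorem c_d2 : D.c * D.d2 * D.c⁻¹ = D.d := by
  calc D.c * D.d2 * D.c⁻¹ = (D.c * D.c ^ 2) * D.d * (D.c * D.c ^ 2)⁻¹ := by simp only [d2]; group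
    _ = D.d := by simp [c_three]

theorem d_d1 : Commute D.d D.d1 := D.d_comm

theorem d2_eq : D.d2 = (D.d * D.d1)⁻¹ := eq_inv_of_mul_eq_one_right D.d_prod

theorem d_d2 : Commute D.d D.d2 := by
  rw [d2_eq]; exact ((Commute.refl _).mul_right D.d_d1).inv_right

theorem d1_d2 : Commute D.d1 D.d2 := by
  rw [d2_eq]; exact (D.d_d1.symm.mul_right (Commute.refl _)).inv_right

theorem T_comm {x y : G} (hx : x ∈ D.T) (hy : y ∈ D.T) : Commute x y := by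
  have h1 : D.T ≤ Subgroup.centralizer {D.d, D.d1, D.d2} := by
    rw [T, Subgroup.closure_le]
    intro z hz
    rw [SetLike.mem_coe, Subgroup.mem_centralizer_iff]
    intro w hw
    simp only [Set.mem_insert_iff, Set.mem_singleton_iff] at hz hw
    rcases hz with rfl | rfl | rfl <;> rcases hw with rfl | rfl | rfl <;>
      first
        | rfl
        | exact D.d_d1 | exact D.d_d1.symm | exact D.d_d2 | exact D.d_d2.symm
        | exact D.d1_d2 | exact D.d1_d2.symm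
  have h2 : D.T ≤ Subgroup.centralizer (D.T : Set G) := by
    rw [Subgroup.le_centralizer_iff] at *
    intro z hz
    rw [Subgroup.mem_centralizer_iff]
    intro w hw
    have hle : D.T ≤ Subgroup.centralizer ({z} : Set G) := by
      rw [T, Subgroup.closure_le]
      intro v hv
      rw [SetLike.mem_coe, Subgroup.mem_centralizer_iff]
      intro z' hz'
      rw [Set.mem_singleton_iff.mp hz']
      exact ((Subgroup.mem_centralizer_iff.mp (h1 hz)) v hv).symm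
    exact ((Subgroup.mem_centralizer_iff.mp (hle hw)) z rfl).symm
  exact (Subgroup.mem_centralizer_iff.mp (h2 hy)) x hx

theorem d_mem : D.d ∈ D.T := Subgroup.subset_closure (by simp)
theorem d1_mem : D.d1 ∈ D.T := Subgroup.subset_closure (by simp)
theorem d2_mem : D.d2 ∈ D.T := Subgroup.subset_closure (by simp)
theorem τ_mem : D.τ ∈ D.T := pow_mem (mul_mem D.d_mem (inv_mem D.d2_mem)) _

theorem conj_mem_of_gens {h : G} (h0 : h * D.d * h⁻¹ ∈ D.T) (h1 : h * D.d1 * h⁻¹ ∈ D.T)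
    (h2 : h * D.d2 * h⁻¹ ∈ D.T) {x : G} (hx : x ∈ D.T) : h * x * h⁻¹ ∈ D.T := by
  have : D.T.map (MulAut.conj h).toMonoidHom ≤ D.T := by
    rw [T, MonoidHom.map_closure, Subgroup.closure_le]
    rintro _ ⟨z, hz, rfl⟩
    simp only [Set.mem_insert_iff, Set.mem_singleton_iff] at hz
    rcases hz with rfl | rfl | rfl
    exacts [h0, h1, h2]
  exact this ⟨x, hx, rfl⟩

theorem c_conj_T {x : G} (hx : x ∈ D.T) : D.c * x * D.c⁻¹ ∈ D.T :=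
  D.conj_mem_of_gens (D.c_d ▸ D.d1_mem) (D.c_d1 ▸ D.d2_mem) (D.c_d2 ▸ D.d_mem) hx

theorem c_sq_conj_T {x : G} (hx : x ∈ D.T) : D.c ^ 2 * x * (D.c ^ 2)⁻¹ ∈ D.T := by
  have := D.c_conj_T (D.c_conj_T hx)
  rw [pow_two, mul_inv_rev]; simpa [mul_assoc] using this

theorem c_inv_conj_T {x : G} (hx : x ∈ D.T) : D.c⁻¹ * x * D.c ∈ D.T := by
  have := D.c_sq_conj_T hx
  rwa [← c_inv, inv_inv] at this

theorem t_c' : D.t * D.c * D.t⁻¹ = D.τ * D.c⁻¹ := eq_mul_inv_of_mul_eq D.t_c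

theorem c_inv_d2 : D.c⁻¹ * D.d2 * D.c = D.d1 := by rw [← c_d1]; group
theorem c_inv_d1 : D.c⁻¹ * D.d1 * D.c = D.d := by rw [← c_d]; group

theorem t_d1 : D.t * D.d1 * D.t⁻¹ = D.d1⁻¹ := by
  calc D.t * D.d1 * D.t⁻¹
      = (D.t * D.c * D.t⁻¹) * (D.t * D.d * D.t⁻¹) * (D.t * D.c * D.t⁻¹)⁻¹ := by simp only [d1]; group
    _ = D.τ * (D.c⁻¹ * D.d2 * D.c)⁻¹ * D.τ⁻¹ := by rw [t_c', D.t_d]; simp only [d2]; group
    _ = D.d1⁻¹ := by
      rw [c_inv_d2, (D.T_comm D.τ_mem (inv_mem D.d1_mem)).eq, mul_inv_cancel_right]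

theorem t_d2 : D.t * D.d2 * D.t⁻¹ = D.d⁻¹ := by
  calc D.t * D.d2 * D.t⁻¹
      = (D.t * D.c * D.t⁻¹) * (D.t * D.d1 * D.t⁻¹) * (D.t * D.c * D.t⁻¹)⁻¹ := by
        rw [← c_d1]; group
    _ = D.τ * (D.c⁻¹ * D.d1 * D.c)⁻¹ * D.τ⁻¹ := by rw [t_c', t_d1]; group
    _ = D.d⁻¹ := by
      rw [c_inv_d1, (D.T_comm D.τ_mem (inv_mem D.d_mem)).eq, mul_inv_cancel_right]

theorem t_conj_T {x : G} (hx : x ∈ D.T) : D.t * x * D.t⁻¹ ∈ D.T :=
  D.conj_mem_of_gens (by rw [D.t_d]; exact inv_mem D.d2_mem)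
    (by rw [t_d1]; exact inv_mem D.d1_mem) (by rw [t_d2]; exact inv_mem D.d_mem) hx

theorem t_inv_d : D.t⁻¹ * D.d * D.t = D.d2⁻¹ := by
  have h := congrArg (·⁻¹) D.t_d2
  simp only [mul_inv_rev, inv_inv] at h
  rw [← h]; group

/-! ### Scaling -/

/-- `g` multiplies the parameter of the family `X` by `a`. -/
def Scales (X : F → G) (g : G) (a : F) : Prop := ∀ x, g * X x * g⁻¹ = X (a * x)

omit D in
theorem Scales.mul {X : F → G} {g h : G} {a b : F} (hg : Scales X g a) (hh : Scales X h b) :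
    Scales X (g * h) (a * b) := fun x => by
  rw [show g * h * X x * (g * h)⁻¹ = g * (h * X x * h⁻¹) * g⁻¹ by group, hh, hg, mul_assoc]

omit D in
theorem Scales.inv {X : F → G} {g : G} {a : F} (hg : Scales X g a) (ha : a ≠ 0) :
    Scales X g⁻¹ a⁻¹ := fun x => by
  have := hg (a⁻¹ * x)
  rw [mul_inv_cancel_left₀ ha] at this
  rw [← this]; group

omit D in
theorem Scales.one (X : F → G) : Scales X (1 : G) (1 : F) := fun x => by simp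

omit D in
theorem Scales.pow {X : F → G} {g : G} {a : F} (hg : Scales X g a) (n : ℕ) : Scales X (g ^ n) (a ^ n) := by
  induction n with
  | zero => simpa using Scales.one X
  | succ n ih => rw [pow_succ, pow_succ]; exact ih.mul hg

omit D in
theorem Scales.conj {X : F → G} {g : G} {a : F} (hg : Scales X g a) (h : G) :
    Scales (fun x => h * X x * h⁻¹) (h * g * h⁻¹) a := fun x => by
  show h * g * h⁻¹ * (h * X x * h⁻¹) * (h * g * h⁻¹)⁻¹ = h * X (a * x) * h⁻¹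
  rw [← hg x]; group

theorem φ_scale_d : Scales D.φ D.d D.ω := D.φ_d

theorem φ_scale_d2 : Scales D.φ D.d2 D.ω := by
  intro x
  rcases eq_or_ne x 0 with rfl | hx
  · simp [φ_zero]
  obtain ⟨i, rfl⟩ := D.hω x hx
  have e : D.φ (D.ω ^ i) = D.d ^ i * D.φ 1 * (D.d ^ i)⁻¹ := by
    rw [(D.φ_scale_d.pow i) 1, mul_one]
  have hc : Commute D.d2 (D.d ^ i) := (D.d_d2.pow_left i).symm
  calc D.d2 * D.φ (D.ω ^ i) * D.d2⁻¹
      = (D.d2 * D.d ^ i) * D.φ 1 * (D.d2 * D.d ^ i)⁻¹ := by rw [e]; group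
    _ = D.d ^ i * (D.d2 * D.φ 1 * D.d2⁻¹) * (D.d ^ i)⁻¹ := by rw [hc.eq]; group
    _ = D.φ (D.ω * D.ω ^ i) := by
      rw [show D.d2 * D.φ 1 * D.d2⁻¹ = D.φ D.ω from D.d2_u, (D.φ_scale_d.pow i) D.ω, mul_comm]

theorem φ_scale_d1 : Scales D.φ D.d1 (D.ω⁻¹ * D.ω⁻¹) := by
  have e : D.d1 = D.d⁻¹ * D.d2⁻¹ := by
    rw [d2_eq, inv_inv, inv_mul_cancel_left]
  rw [e]; exact (D.φ_scale_d.inv D.ω_ne).mul (D.φ_scale_d2.inv D.ω_ne)

theorem x12_scale_d : Scales D.x12 D.d D.ω := fun a => by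
  have := (D.φ_scale_d2.conj D.c) a; rwa [c_d2] at this
theorem x12_scale_d1 : Scales D.x12 D.d1 D.ω := fun a => (D.φ_scale_d.conj D.c) a
theorem x12_scale_d2 : Scales D.x12 D.d2 (D.ω⁻¹ * D.ω⁻¹) := fun a => by
  have := (D.φ_scale_d1.conj D.c) a; rwa [c_d1] at this

omit D in
theorem Scales.neg_arg {X : F → G} {g : G} {a : F} (hg : Scales X g a) :
    Scales (fun x => X (-x)) g a := fun x => by
  show g * X (-x) * g⁻¹ = X (-(a * x))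
  rw [hg, mul_neg]

theorem x10_scale_d : Scales D.x10 D.d D.ω⁻¹ := fun a => by
  have := ((D.φ_scale_d2.inv D.ω_ne).neg_arg.conj D.t) a
  rw [show D.t * D.d2⁻¹ * D.t⁻¹ = (D.t * D.d2 * D.t⁻¹)⁻¹ by group, t_d2, inv_inv] at this
  exact this
theorem x10_scale_d1 : Scales D.x10 D.d1 (D.ω⁻¹ * D.ω⁻¹)⁻¹ := fun a => by
  have := ((D.φ_scale_d1.inv (by simp [D.ω_ne])).neg_arg.conj D.t) a
  rw [show D.t * D.d1⁻¹ * D.t⁻¹ = (D.t * D.d1 * D.t⁻¹)⁻¹ by group, t_d1, inv_inv] at this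
  exact this
theorem x10_scale_d2 : Scales D.x10 D.d2 D.ω⁻¹ := fun a => by
  have := ((D.φ_scale_d.inv D.ω_ne).neg_arg.conj D.t) a
  rw [show D.t * D.d⁻¹ * D.t⁻¹ = (D.t * D.d * D.t⁻¹)⁻¹ by group, D.t_d, inv_inv] at this
  exact this

theorem c_sq_d : D.c ^ 2 * D.d * (D.c ^ 2)⁻¹ = D.d2 := rfl
theorem c_sq_d1 : D.c ^ 2 * D.d1 * (D.c ^ 2)⁻¹ = D.d := by
  rw [← D.c_d2, ← D.c_d1, pow_two]; group
theorem c_sq_d2 : D.c ^ 2 * D.d2 * (D.c ^ 2)⁻¹ = D.d1 := by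
  rw [← D.c_d, ← D.c_d2, pow_two]; group

theorem x02_scale_d : Scales D.x02 D.d (D.ω⁻¹ * D.ω⁻¹)⁻¹ := fun a => by
  have := (D.x10_scale_d1.conj (D.c ^ 2)) a; rwa [c_sq_d1] at this
theorem x02_scale_d1 : Scales D.x02 D.d1 D.ω⁻¹ := fun a => by
  have := (D.x10_scale_d2.conj (D.c ^ 2)) a; rwa [c_sq_d2] at this
theorem x02_scale_d2 : Scales D.x02 D.d2 D.ω⁻¹ := fun a => (D.x10_scale_d.conj (D.c ^ 2)) a

/-- The elements multiplying the parameter of `X` by some nonzero scalar. -/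
def scaleSub (X : F → G) : Subgroup G where
  carrier := {g | ∃ a : F, a ≠ 0 ∧ Scales X g a}
  one_mem' := ⟨1, one_ne_zero, Scales.one X⟩
  mul_mem' := fun ⟨a, ha, h⟩ ⟨b, hb, h'⟩ => ⟨a * b, mul_ne_zero ha hb, h.mul h'⟩
  inv_mem' := fun ⟨a, ha, h⟩ => ⟨a⁻¹, inv_ne_zero ha, h.inv ha⟩

theorem T_le_scale {X : F → G} {a b c' : F} (ha : a ≠ 0) (hb : b ≠ 0) (hc : c' ≠ 0)
    (h0 : Scales X D.d a) (h1 : Scales X D.d1 b) (h2 : Scales X D.d2 c') : D.T ≤ scaleSub X := by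
  rw [T, Subgroup.closure_le]
  intro z hz
  simp only [Set.mem_insert_iff, Set.mem_singleton_iff] at hz
  rcases hz with rfl | rfl | rfl
  exacts [⟨a, ha, h0⟩, ⟨b, hb, h1⟩, ⟨c', hc, h2⟩]

theorem T_φ {g : G} (hg : g ∈ D.T) (a : F) : ∃ a', g * D.φ a * g⁻¹ = D.φ a' := by
  obtain ⟨e, -, he⟩ := D.T_le_scale D.ω_ne (by simp [D.ω_ne]) D.ω_ne D.φ_scale_d D.φ_scale_d1
    D.φ_scale_d2 hg
  exact ⟨_, he a⟩

theorem T_x12 {g : G} (hg : g ∈ D.T) (a : F) : ∃ a', g * D.x12 a * g⁻¹ = D.x12 a' := by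
  obtain ⟨e, -, he⟩ := D.T_le_scale D.ω_ne D.ω_ne (by simp [D.ω_ne]) D.x12_scale_d D.x12_scale_d1
    D.x12_scale_d2 hg
  exact ⟨_, he a⟩

theorem T_x02 {g : G} (hg : g ∈ D.T) (a : F) : ∃ a', g * D.x02 a * g⁻¹ = D.x02 a' := by
  obtain ⟨e, -, he⟩ := D.T_le_scale (by simp [D.ω_ne]) (by simp [D.ω_ne]) (by simp [D.ω_ne]) D.x02_scale_d
    D.x02_scale_d1 D.x02_scale_d2 hg
  exact ⟨_, he a⟩

/-! ### The Weyl element -/

theorem τ_scale_φ : Scales D.φ D.τ 1 := by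
  have := (D.φ_scale_d.mul (D.φ_scale_d2.inv D.ω_ne)).pow D.k
  rwa [mul_inv_cancel₀ D.ω_ne, one_pow] at this

theorem τ_commute_u : Commute D.τ (D.φ 1) := by
  have := D.τ_scale_φ 1
  rw [one_mul] at this
  exact mul_inv_eq_iff_eq_mul.mp this

theorem d2_pow : D.d2 ^ D.N = 1 := by rw [d2, conj_pow, D.d_pow]; group

theorem τ_sq : D.τ * D.τ = 1 := by
  rcases D.hk with ⟨-, hk⟩ | ⟨-, hk⟩
  · simp [τ, hk]
  · rw [τ, ← pow_add, ← two_mul, hk, D.d_d2.inv_right.mul_pow, inv_pow, D.d_pow, D.d2_pow]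
    simp

theorem t_sq : D.t * D.t = D.τ := by
  have hu : Commute D.τ (D.φ 1) := D.τ_commute_u
  have inv9 : D.t * (D.φ 1)⁻¹ * D.t⁻¹ = D.φ 1 * D.t⁻¹ * D.φ 1 := by
    have := congrArg (·⁻¹) D.t_u
    simpa [mul_inv_rev, mul_assoc] using this
  rcases D.hk with ⟨hp, hk⟩ | ⟨hωk, hk⟩
  · have hinv : (D.φ 1)⁻¹ = D.φ 1 := by
      rw [← φ_neg, eq_comm]
      congr 1
      exact (neg_eq_of_add_eq_zero_left (D.hchar hp 1)).symm
    have h9 := D.t_u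
    rw [hinv] at inv9 h9
    have : D.t = D.t⁻¹ := mul_left_cancel (mul_right_cancel (h9.symm.trans inv9))
    rw [τ, hk, pow_zero]
    nth_rewrite 2 [this]
    exact mul_inv_cancel _
  · -- conjugate the relation by `d ^ k`, which negates the parameter
    have hs : Scales D.φ (D.d ^ D.k) (-1) := hωk ▸ D.φ_scale_d.pow D.k
    have h1 : D.d ^ D.k * D.φ 1 * (D.d ^ D.k)⁻¹ = (D.φ 1)⁻¹ := by rw [hs 1, mul_one, φ_neg]
    have hdk : (D.d ^ D.k)⁻¹ = D.d ^ D.k := by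
      apply inv_eq_of_mul_eq_one_right
      rw [← pow_add, ← two_mul, hk, D.d_pow]
    have hconj : D.d ^ D.k * D.t * (D.d ^ D.k)⁻¹ = D.t * D.τ := by
      have e : D.t⁻¹ * D.d ^ D.k * D.t = (D.d2⁻¹) ^ D.k := by
        rw [← t_inv_d]
        have := (conj_pow (i := D.k) (a := D.t⁻¹) (b := D.d)).symm
        simpa using this
      calc D.d ^ D.k * D.t * (D.d ^ D.k)⁻¹ = D.t * ((D.t⁻¹ * D.d ^ D.k * D.t) * (D.d ^ D.k)⁻¹) := by group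
        _ = D.t * D.τ := by rw [e, hdk, τ, D.d_d2.inv_right.mul_pow, (D.d_d2.inv_right.pow_pow _ _).eq]
    have hmain := congrArg (fun g => D.d ^ D.k * g * (D.d ^ D.k)⁻¹) D.t_u
    rw [show D.d ^ D.k * (D.t * D.φ 1 * D.t⁻¹) * (D.d ^ D.k)⁻¹ =
        (D.d ^ D.k * D.t * (D.d ^ D.k)⁻¹) * (D.d ^ D.k * D.φ 1 * (D.d ^ D.k)⁻¹) *
          (D.d ^ D.k * D.t * (D.d ^ D.k)⁻¹)⁻¹ by group,
      show D.d ^ D.k * ((D.φ 1)⁻¹ * D.t * (D.φ 1)⁻¹) * (D.d ^ D.k)⁻¹ =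
        (D.d ^ D.k * D.φ 1 * (D.d ^ D.k)⁻¹)⁻¹ * (D.d ^ D.k * D.t * (D.d ^ D.k)⁻¹) *
          (D.d ^ D.k * D.φ 1 * (D.d ^ D.k)⁻¹)⁻¹ by group,
      h1, hconj, inv_inv] at hmain
    have e : D.t * D.τ * (D.φ 1)⁻¹ * (D.t * D.τ)⁻¹ = D.t * (D.φ 1)⁻¹ * D.t⁻¹ := by
      rw [mul_inv_rev, show D.t * D.τ * (D.φ 1)⁻¹ * (D.τ⁻¹ * D.t⁻¹) =
        D.t * (D.τ * (D.φ 1)⁻¹ * D.τ⁻¹) * D.t⁻¹ by group, hu.inv_right.eq, mul_inv_cancel_right]
    rw [e, inv9] at hmain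
    have : D.t⁻¹ = D.t * D.τ := mul_left_cancel (mul_right_cancel hmain)
    calc D.t * D.t = D.t * (D.t * D.τ) * D.τ := by
          rw [show D.t * (D.t * D.τ) * D.τ = D.t * D.t * (D.τ * D.τ) by group, τ_sq, mul_one]
      _ = D.τ := by rw [← this]; group

theorem t_x10 (a : F) : D.t * D.x10 a * D.t⁻¹ = D.φ (-a) := by
  rw [x10, show D.t * (D.t * D.φ (-a) * D.t⁻¹) * D.t⁻¹ = (D.t * D.t) * D.φ (-a) * (D.t * D.t)⁻¹ by group,
    t_sq, D.τ_scale_φ, one_mul]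

theorem t_x12 (a : F) : ∃ a', D.t * D.x12 a * D.t⁻¹ = D.x02 a' := by
  obtain ⟨a', ha'⟩ := D.T_x02 D.τ_mem (-a)
  refine ⟨a', ?_⟩
  rw [← ha', x02, x10, neg_neg, ← c_inv,
    show D.t * D.x12 a * D.t⁻¹ =
      (D.t * D.c * D.t⁻¹) * (D.t * D.φ a * D.t⁻¹) * (D.t * D.c * D.t⁻¹)⁻¹ by simp only [x12]; group,
    t_c']
  group

theorem t_x02 (a : F) : ∃ a', D.t * D.x02 a * D.t⁻¹ = D.x12 a' := by
  obtain ⟨e, he0, he⟩ := D.T_le_scale (by simp [D.ω_ne]) (by simp [D.ω_ne]) (by simp [D.ω_ne]) D.x02_scale_d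
    D.x02_scale_d1 D.x02_scale_d2 D.τ_mem
  obtain ⟨a', ha'⟩ := D.T_x12 D.τ_mem (-(e⁻¹ * a))
  refine ⟨a', ?_⟩
  have h : D.t * D.x12 (-(e⁻¹ * a)) * D.t⁻¹ = D.x02 a := by
    rw [show D.t * D.x12 (-(e⁻¹ * a)) * D.t⁻¹ =
      (D.t * D.c * D.t⁻¹) * (D.t * D.φ (-(e⁻¹ * a)) * D.t⁻¹) * (D.t * D.c * D.t⁻¹)⁻¹ by
        simp only [x12]; group, t_c']
    have := he (e⁻¹ * a)
    rw [mul_inv_cancel_left₀ he0] at this
    rw [← this, x02, x10, ← c_inv]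
    group
  rw [← h, ← ha', ← t_sq]
  group

/-- The rank one relation in general position. -/
theorem t_φ {a : F} (ha : a ≠ 0) :
    ∃ h ∈ D.T, ∃ a1 a2 : F, D.t * D.φ a * D.t⁻¹ = h * D.φ a1 * D.t * D.φ a2 := by
  obtain ⟨i, hi⟩ := D.hω a⁻¹ (inv_ne_zero ha)
  set g := D.d ^ i with hg
  have hgT : g ∈ D.T := pow_mem D.d_mem i
  set h' := D.t⁻¹ * g * D.t * g⁻¹ with hh'
  have hh'T : h' ∈ D.T := by
    refine mul_mem ?_ (inv_mem hgT)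
    have e : D.t⁻¹ * g * D.t = (D.d2⁻¹) ^ i := by
      rw [← t_inv_d, hg]
      have := (conj_pow (i := i) (a := D.t⁻¹) (b := D.d)).symm
      simpa using this
    rw [e]; exact pow_mem (inv_mem D.d2_mem) i
  have hscale : Scales D.φ h' (a * a) := by
    have e : h' = (D.d2⁻¹) ^ i * (D.d ^ i)⁻¹ := by
      rw [hh', hg, ← t_inv_d]
      have := (conj_pow (i := i) (a := D.t⁻¹) (b := D.d)).symm
      simp only [inv_inv] at this
      rw [this]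
    have := ((D.φ_scale_d2.inv D.ω_ne).pow i).mul ((D.φ_scale_d.pow i).inv (pow_ne_zero _ D.ω_ne))
    rw [← e] at this
    rwa [inv_pow D.ω, hi, inv_inv] at this
  have hgφ : ∀ x, g * D.φ x * g⁻¹ = D.φ (a⁻¹ * x) := by
    intro x; rw [hg, (D.φ_scale_d.pow i) x, hi]
  -- conjugate the relation by `g`
  have hconj : D.t * D.φ a * D.t⁻¹ = (D.φ a⁻¹)⁻¹ * (D.t * h') * (D.φ a⁻¹)⁻¹ := by
    have h1 := congrArg (fun z => g * z * g⁻¹) D.t_u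
    rw [show g * (D.t * D.φ 1 * D.t⁻¹) * g⁻¹ =
        (D.t * h') * (g * D.φ 1 * g⁻¹) * (D.t * h')⁻¹ by rw [hh']; group,
      show g * ((D.φ 1)⁻¹ * D.t * (D.φ 1)⁻¹) * g⁻¹ =
        (g * D.φ 1 * g⁻¹)⁻¹ * (D.t * h') * (g * D.φ 1 * g⁻¹)⁻¹ by rw [hh']; group,
      hgφ, mul_one] at h1
    rw [← h1, show D.t * h' * D.φ a⁻¹ * (D.t * h')⁻¹ = D.t * (h' * D.φ a⁻¹ * h'⁻¹) * D.t⁻¹ by group,
      hscale, mul_assoc a a, mul_inv_cancel₀ ha, mul_one]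
  set h'' := D.t * h' * D.t⁻¹ with hh''
  have hh''T : h'' ∈ D.T := D.t_conj_T hh'T
  obtain ⟨a1, ha1⟩ := D.T_φ (inv_mem hh''T) (-a⁻¹)
  refine ⟨h'', hh''T, a1, -a⁻¹, ?_⟩
  rw [hconj, ← ha1, ← φ_neg, hh'']
  group

/-- The same relation seen from the opposite root. -/
theorem φ_decomp {a : F} (ha : a ≠ 0) :
    ∃ h ∈ D.T, ∃ b1 b2 : F, D.φ a = h * D.x10 b1 * D.t * D.x10 b2 := by
  obtain ⟨h, hh, a1, a2, he⟩ := D.t_φ ha
  refine ⟨D.t * h * D.t⁻¹, D.t_conj_T hh, -a1, -a2, ?_⟩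
  have h2 : D.φ a = (D.t * D.t) * D.φ a * (D.t * D.t)⁻¹ := by rw [t_sq, D.τ_scale_φ, one_mul]
  rw [h2, x10, x10, neg_neg, neg_neg,
    show D.t * D.t * D.φ a * (D.t * D.t)⁻¹ = D.t * (D.t * D.φ a * D.t⁻¹) * D.t⁻¹ by group, he]
  group

end Data

end Cfsg.Agent.Lib.SL3Presentation
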