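import Mathlib

/-!
Additive subgroups of a finite field stable under multiplication by the cube of a primitive element.
-/

set_option autoImplicit false

namespace Cfsg.Agent.Lib.SL3Presentation

variable {F : Type*} [Field F] [Fintype F]

theorem orderOf_of_generates {ω : F} (hω : ∀ x : F, x ≠ 0 → ∃ i : ℕ, ω ^ i = x) (h0 : ω ≠ 0) :
    orderOf ω = Fintype.card F - 1 := by
  classical
  set w : Fˣ := Units.mk0 ω h0 with hw
  have hgen : ∀ x : Fˣ, x ∈ Subgroup.zpowers w := by
    intro x
    obtain ⟨i, hi⟩ := hω x x.ne_zero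
    exact ⟨i, Units.ext (by simpa [hw] using hi)⟩
  have := orderOf_eq_card_of_forall_mem_zpowers hgen
  rwa [Nat.card_eq_fintype_card, Fintype.card_units, ← orderOf_units] at this

theorem addSubgroup_eq_top_of_cube_stable {ω : F} (hω : ∀ x : F, x ≠ 0 → ∃ i : ℕ, ω ^ i = x) (h0 : ω ≠ 0)
    (S : AddSubgroup F) (h1 : (1 : F) ∈ S) (h3 : ∀ x ∈ S, ω ^ 3 * x ∈ S)
    (h4 : Fintype.card F = 4 → ∃ s ∈ S, s ≠ 0 ∧ s ≠ 1) : S = ⊤ := by
  classical
  let K : Subfield F :=
    { carrier := {x | ∀ s ∈ S, x * s ∈ S}
      mul_mem' := fun {x y} hx hy s hs => by rw [mul_assoc]; exact hx _ (hy s hs)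
      one_mem' := fun s hs => by rwa [one_mul]
      add_mem' := fun {x y} hx hy s hs => by rw [add_mul]; exact S.add_mem (hx s hs) (hy s hs)
      zero_mem' := fun s hs => by rw [zero_mul]; exact S.zero_mem
      neg_mem' := fun {x} hx s hs => by rw [neg_mul]; exact S.neg_mem (hx s hs)
      inv_mem' := fun x hx => by
        have hpow : ∀ n : ℕ, ∀ s ∈ S, x ^ n * s ∈ S := by
          intro n
          induction n with
          | zero => intro s hs; simpa using hs
          | succ n ih => intro s hs; rw [pow_succ, mul_assoc]; exact ih _ (hx s hs)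
        intro s hs
        rcases eq_or_ne x 0 with rfl | hx0
        · simpa using S.zero_mem
        rcases Nat.lt_or_ge (Fintype.card F) 3 with hq | hq
        · have : x ^ (Fintype.card F - 1) = 1 := FiniteField.pow_card_sub_one_eq_one x hx0
          have h2 : Fintype.card F - 1 = 1 := by
            have := Fintype.one_lt_card (α := F); omega
          rw [h2, pow_one] at this
          subst this; simpa using hs
        · have : x⁻¹ = x ^ (Fintype.card F - 2) := by
            apply inv_eq_of_mul_eq_one_right
            rw [← pow_succ', show Fintype.card F - 2 + 1 = Fintype.card F - 1 by omega]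
            exact FiniteField.pow_card_sub_one_eq_one x hx0
          rw [this]; exact hpow _ s hs }
  by_cases hK : K = ⊤
  · refine eq_top_iff.mpr fun x _ => ?_
    have : x ∈ K := hK ▸ Subfield.mem_top x
    simpa using this 1 h1
  -- the subfield is small
  have hcube : ω ^ 3 ∈ K := fun s hs => h3 s hs
  have hKdim : Fintype.card K * Fintype.card K ≤ Fintype.card F := by
    have hc := Module.card_eq_pow_finrank (K := K) (V := F)
    have h2 : 2 ≤ Module.finrank K F := by
      by_contra hlt
      apply hK
      refine eq_top_iff.mpr fun x _ => ?_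
      have h1' : Module.finrank K F = 1 := by
        have : 0 < Module.finrank K F := Module.finrank_pos
        omega
      obtain ⟨k, hk⟩ := (finrank_eq_one_iff_of_nonzero' (1 : F) one_ne_zero).mp h1' x
      have e : (k : F) = x := by rw [← hk, Subfield.smul_def, smul_eq_mul, mul_one]
      exact e ▸ k.2
    rw [hc, ← pow_two]
    exact Nat.pow_le_pow_right Fintype.card_pos h2
  have hbig : orderOf (ω ^ 3) ≤ Fintype.card K - 1 := by
    have h := orderOf_dvd_card (G := Kˣ) (x := Units.mk0 (⟨ω ^ 3, hcube⟩ : K) (by
      intro e; exact pow_ne_zero 3 h0 (congrArg Subtype.val e)))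
    have e : orderOf (Units.mk0 (⟨ω ^ 3, hcube⟩ : K) (by
      intro e; exact pow_ne_zero 3 h0 (congrArg Subtype.val e))) = orderOf (ω ^ 3) := by
      rw [← orderOf_units]
      exact (orderOf_injective K.subtype.toMonoidHom (fun a b h => Subtype.ext h) _).symm
    rw [e, Fintype.card_units] at h
    exact Nat.le_of_dvd (by have := Fintype.one_lt_card (α := K); omega) h
  have hord := orderOf_of_generates hω h0
  have hfin : IsOfFinOrder ω := orderOf_pos_iff.mp (by rw [hord]; have := Fintype.one_lt_card (α := F); omega)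
  have hpowle : Fintype.card F - 1 ≤ 3 * orderOf (ω ^ 3) := by
    rw [hfin.orderOf_pow, hord]
    have hg : Nat.gcd (Fintype.card F - 1) 3 ≤ 3 := Nat.gcd_le_right _ (by norm_num)
    have := Nat.div_mul_cancel (Nat.gcd_dvd_left (Fintype.card F - 1) 3)
    calc Fintype.card F - 1 = (Fintype.card F - 1) / Nat.gcd (Fintype.card F - 1) 3 *
          Nat.gcd (Fintype.card F - 1) 3 := this.symm
      _ ≤ _ := by rw [Nat.mul_comm 3]; exact Nat.mul_le_mul_left _ hg
  have hK2 : Fintype.card K = 2 := by
    have := Fintype.one_lt_card (α := K)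
    have h3' : Fintype.card K * Fintype.card K ≤ 3 * (Fintype.card K - 1) + 1 := by omega
    by_contra hne
    have : 3 * Fintype.card K ≤ Fintype.card K * Fintype.card K := Nat.mul_le_mul_right _ (by omega)
    omega
  have hF4 : Fintype.card F = 4 := by
    rw [hK2] at hKdim hbig
    omega
  -- a third element
  obtain ⟨s, hs, hs0, hs1⟩ := h4 hF4
  have h3le : 3 ≤ Nat.card S := by
    rw [Nat.card_eq_fintype_card]
    have : ({⟨0, S.zero_mem⟩, ⟨1, h1⟩, ⟨s, hs⟩} : Finset S).card = 3 := by
      rw [Finset.card_eq_three]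
      exact ⟨_, _, _, by simp, by simp [Subtype.ext_iff, hs0.symm], by simp [Subtype.ext_iff, hs1.symm], rfl⟩
    rw [← this]; exact Finset.card_le_univ _
  have hdvd : Nat.card S ∣ 4 := by
    rw [← hF4, ← Nat.card_eq_fintype_card]; exact S.card_addSubgroup_dvd_card
  have h4S : Nat.card S = 4 := by
    have := Nat.le_of_dvd (by norm_num) hdvd
    interval_cases h : Nat.card S <;> omega
  exact AddSubgroup.eq_top_of_card_eq S (by rw [h4S, Nat.card_eq_fintype_card, hF4])

end Cfsg.Agent.Lib.SL3Presentation
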