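import Mathlib
import Cfsg.Agent.Lib.SL3Presentation.Basic
import Cfsg.Agent.Lib.SL3Presentation.Span

/-!
A group satisfying the short `SL₃` relations is no larger than `SL₃`.
-/

set_option autoImplicit false

namespace Cfsg.Agent.Lib.SL3Presentation

open scoped Pointwise

namespace Data

variable {F : Type*} [Field F] [Fintype F] {G : Type*} [Group G] (D : Data F G)

/-- The remaining three relations. -/
structure Rels : Prop where
  row : Commute (D.φ 1) (D.x02 1)
  comm : D.φ 1 * D.x12 1 * (D.φ 1)⁻¹ * (D.x12 1)⁻¹ = D.x02 1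
  extra : (Fintype.card F ≠ 4 ∧ Commute (D.x12 1) (D.x02 1)) ∨
    (Fintype.card F = 4 ∧ D.φ D.ω * D.x12 1 * (D.φ D.ω)⁻¹ * (D.x12 1)⁻¹ = D.x02 D.ω)

omit [Fintype F] in
theorem mul_self_eq_one {X : F → G} (hadd : ∀ a b, X (a + b) = X a * X b) (h2 : ∀ x : F, x + x = 0) (a : F) :
    X a * X a = 1 := by
  have h0 : X 0 = 1 := by
    have := hadd 0 0
    rw [add_zero] at this
    exact mul_left_cancel (this.symm.trans (mul_one _).symm)
  rw [← hadd, h2, h0]

omit [Fintype F] in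
theorem commutes_of_involutions {a v z : G} (ha : a * a = 1) (hv : v * v = 1) (hz : z * z = 1)
    (h : a * v * a⁻¹ * v⁻¹ = z) : Commute v z ∧ Commute a z := by
  have hai : a⁻¹ = a := inv_eq_of_mul_eq_one_right ha
  have hvi : v⁻¹ = v := inv_eq_of_mul_eq_one_right hv
  have hzi : z⁻¹ = z := inv_eq_of_mul_eq_one_right hz
  rw [hai, hvi] at h
  constructor
  · have e : z * v = a * v * a := by rw [← h, mul_assoc, hv, mul_one]
    have hsq : (z * v)⁻¹ = z * v := by rw [e, mul_inv_rev, mul_inv_rev, hai, hvi, mul_assoc]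
    rw [mul_inv_rev, hzi, hvi] at hsq
    exact hsq
  · have e : a * z = v * a * v := by rw [← h, ← mul_assoc, ← mul_assoc, ← mul_assoc, ha, one_mul]
    have hsq : (a * z)⁻¹ = a * z := by rw [e, mul_inv_rev, mul_inv_rev, hai, hvi, mul_assoc]
    rw [mul_inv_rev, hzi, hai] at hsq
    exact hsq.symm

variable {D} (R : D.Rels)
include R

theorem four_char (h4 : Fintype.card F = 4) : ∀ x : F, x + x = 0 := by
  have h : ((Fintype.card F : ℕ) : F) = 0 := FiniteField.cast_card_eq_zero F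
  rw [h4] at h
  have h2 : (2 : F) = 0 := by
    have : (2 : F) * 2 = 0 := by rw [← h]; norm_num
    simpa using this
  intro x; rw [← two_mul, h2, zero_mul]

theorem omega_ne_one (h4 : Fintype.card F = 4) : D.ω ≠ 1 := by
  intro e
  have := orderOf_of_generates D.hω D.ω_ne
  rw [e, orderOf_one, h4] at this
  omega

theorem col_one : Commute (D.x12 1) (D.x02 1) := by
  rcases R.extra with ⟨-, h⟩ | ⟨h4, -⟩
  · exact h
  · exact (commutes_of_involutions (mul_self_eq_one D.φ_add (four_char R h4) 1)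
      (mul_self_eq_one D.x12_add (four_char R h4) 1) (mul_self_eq_one D.x02_add (four_char R h4) 1) R.comm).1

theorem four_rel (h4 : Fintype.card F = 4) :
    D.φ D.ω * D.x12 1 * (D.φ D.ω)⁻¹ * (D.x12 1)⁻¹ = D.x02 D.ω :=
  R.extra.elim (fun h => absurd h4 h.1) (fun h => h.2)

theorem row_all (a e : F) : Commute (D.φ a) (D.x02 e) := by
  let S : AddSubgroup F :=
    { carrier := {e | Commute (D.φ 1) (D.x02 e)}
      zero_mem' := by simp [D.x02_zero]
      add_mem' := fun {x y} hx hy => by simp only [Set.mem_setOf_eq, D.x02_add] at *; exact hx.mul_right hy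
      neg_mem' := fun {x} hx => by
        have e : D.x02 (-x) = (D.x02 x)⁻¹ :=
          eq_inv_of_mul_eq_one_right (by rw [← D.x02_add, add_neg_cancel, D.x02_zero])
        simp only [Set.mem_setOf_eq, e] at *; exact hx.inv_right }
  have hw := D.ω_ne
  have hS : S = ⊤ := by
    refine addSubgroup_eq_top_of_cube_stable D.hω hw S R.row (fun x hx => ?_) (fun h4 => ?_)
    · have h := Commute.conj hx (D.d * D.d2⁻¹)
      rw [(D.φ_scale_d.mul (D.φ_scale_d2.inv hw)) 1, (D.x02_scale_d.mul (D.x02_scale_d2.inv (inv_ne_zero hw))) x,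
        mul_inv_cancel₀ hw, one_mul] at h
      show Commute (D.φ 1) (D.x02 (D.ω ^ 3 * x))
      convert h using 3
      field_simp
    · have hc := (commutes_of_involutions (mul_self_eq_one D.φ_add (four_char R h4) D.ω)
        (mul_self_eq_one D.x12_add (four_char R h4) 1) (mul_self_eq_one D.x02_add (four_char R h4) D.ω) (four_rel R h4)).2
      have h := Commute.conj hc D.d⁻¹
      rw [(D.φ_scale_d.inv hw) D.ω, (D.x02_scale_d.inv (by simp [hw])) D.ω, inv_mul_cancel₀ hw] at h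
      refine ⟨_, h, by simp [hw], fun e => omega_ne_one R h4 ?_⟩
      field_simp at e
      exact e.symm
  rcases eq_or_ne a 0 with rfl | ha
  · simp [D.φ_zero]
  obtain ⟨i, rfl⟩ := D.hω a ha
  have hmem : (D.ω⁻¹ * D.ω⁻¹) ^ i * e ∈ S := by rw [hS]; trivial
  have h := Commute.conj hmem (D.d ^ i)
  rw [(D.φ_scale_d.pow i) 1, (D.x02_scale_d.pow i) _, mul_one, inv_pow, inv_mul_cancel_left₀ (by simp [hw])] at h
  exact h

theorem col_all (b e : F) : Commute (D.x12 b) (D.x02 e) := by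
  let S : AddSubgroup F :=
    { carrier := {e | Commute (D.x12 1) (D.x02 e)}
      zero_mem' := by simp [D.x02_zero]
      add_mem' := fun {x y} hx hy => by simp only [Set.mem_setOf_eq, D.x02_add] at *; exact hx.mul_right hy
      neg_mem' := fun {x} hx => by
        have e : D.x02 (-x) = (D.x02 x)⁻¹ :=
          eq_inv_of_mul_eq_one_right (by rw [← D.x02_add, add_neg_cancel, D.x02_zero])
        simp only [Set.mem_setOf_eq, e] at *; exact hx.inv_right }
  have hw := D.ω_ne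
  have hS : S = ⊤ := by
    refine addSubgroup_eq_top_of_cube_stable D.hω hw S (col_one R) (fun x hx => ?_) (fun h4 => ?_)
    · have h := Commute.conj hx (D.d ^ 2 * D.d2)
      rw [((D.x12_scale_d.pow 2).mul D.x12_scale_d2) 1, ((D.x02_scale_d.pow 2).mul D.x02_scale_d2) x] at h
      show Commute (D.x12 1) (D.x02 (D.ω ^ 3 * x))
      convert h using 2
      · congr 1; field_simp
      · congr 1; field_simp
    · exact ⟨D.ω, (commutes_of_involutions (mul_self_eq_one D.φ_add (four_char R h4) D.ω)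
        (mul_self_eq_one D.x12_add (four_char R h4) 1) (mul_self_eq_one D.x02_add (four_char R h4) D.ω) (four_rel R h4)).1,
        hw, omega_ne_one R h4⟩
  rcases eq_or_ne b 0 with rfl | hb
  · simp [D.x12_zero]
  obtain ⟨i, rfl⟩ := D.hω b hb
  have hmem : (D.ω⁻¹ * D.ω⁻¹) ^ i * e ∈ S := by rw [hS]; trivial
  have h := Commute.conj hmem (D.d ^ i)
  rw [(D.x12_scale_d.pow i) 1, (D.x02_scale_d.pow i) _, mul_one, inv_pow, inv_mul_cancel_left₀ (by simp [hw])] at h
  exact h

/-- The unipotent radical `X₁₂ X₀₂`. -/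
def Q : Subgroup G where
  carrier := {g | ∃ b e : F, g = D.x12 b * D.x02 e}
  one_mem' := ⟨0, 0, by simp [D.x12_zero, D.x02_zero]⟩
  mul_mem' := by
    rintro _ _ ⟨b, e, rfl⟩ ⟨b', e', rfl⟩
    refine ⟨b + b', e + e', ?_⟩
    rw [D.x12_add, D.x02_add]
    exact (col_all R b' e).symm.mul_mul_mul_comm _ _
  inv_mem' := by
    rintro _ ⟨b, e, rfl⟩
    refine ⟨-b, -e, inv_eq_of_mul_eq_one_right ?_⟩
    rw [(col_all R (-b) e).symm.mul_mul_mul_comm, ← D.x12_add, ← D.x02_add, add_neg_cancel, add_neg_cancel,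
      D.x12_zero, D.x02_zero, one_mul]

theorem x12_mem_Q (b : F) : D.x12 b ∈ Q R := ⟨b, 0, by simp [D.x02_zero]⟩
theorem x02_mem_Q (e : F) : D.x02 e ∈ Q R := ⟨0, e, by simp [D.x12_zero]⟩

theorem T_conj_Q {g : G} (hg : g ∈ D.T) {x : G} (hx : x ∈ Q R) : g * x * g⁻¹ ∈ Q R := by
  obtain ⟨b, e, rfl⟩ := hx
  obtain ⟨b', hb'⟩ := D.T_x12 hg b
  obtain ⟨e', he'⟩ := D.T_x02 hg e
  exact ⟨b', e', by rw [← hb', ← he']; group⟩

theorem comm_mem (a b : F) : D.φ a * D.x12 b * (D.φ a)⁻¹ ∈ Q R := by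
  let S : AddSubgroup F :=
    { carrier := {b | D.φ 1 * D.x12 b * (D.φ 1)⁻¹ ∈ Q R}
      zero_mem' := by simp [D.x12_zero, (Q R).one_mem]
      add_mem' := fun {x y} hx hy => by
        simp only [Set.mem_setOf_eq, D.x12_add] at *
        rw [← conj_mul]; exact (Q R).mul_mem hx hy
      neg_mem' := fun {x} hx => by
        have e : D.x12 (-x) = (D.x12 x)⁻¹ :=
          eq_inv_of_mul_eq_one_right (by rw [← D.x12_add, add_neg_cancel, D.x12_zero])
        simp only [Set.mem_setOf_eq, e] at *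
        rw [← conj_inv]; exact (Q R).inv_mem hx }
  have hw := D.ω_ne
  have hS : S = ⊤ := by
    refine addSubgroup_eq_top_of_cube_stable D.hω hw S ?_ (fun x hx => ?_) (fun h4 => ?_)
    · show D.φ 1 * D.x12 1 * (D.φ 1)⁻¹ ∈ Q R
      rw [mul_inv_eq_iff_eq_mul.mp R.comm]
      exact (Q R).mul_mem (x02_mem_Q R _) (x12_mem_Q R _)
    · have hgT : D.d * D.d2⁻¹ ∈ D.T := mul_mem D.d_mem (inv_mem D.d2_mem)
      have h := T_conj_Q R hgT hx
      rw [conj_mul', conj_inv'] at h
      rw [(D.φ_scale_d.mul (D.φ_scale_d2.inv hw)) 1, (D.x12_scale_d.mul (D.x12_scale_d2.inv (by simp [hw]))) x,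
        mul_inv_cancel₀ hw, one_mul] at h
      show D.φ 1 * D.x12 (D.ω ^ 3 * x) * (D.φ 1)⁻¹ ∈ Q R
      convert h using 4
      field_simp
    · have hm : D.φ D.ω * D.x12 1 * (D.φ D.ω)⁻¹ ∈ Q R := by
        rw [mul_inv_eq_iff_eq_mul.mp (four_rel R h4)]
        exact (Q R).mul_mem (x02_mem_Q R _) (x12_mem_Q R _)
      have h := T_conj_Q R (inv_mem D.d_mem) hm
      rw [conj_mul', conj_inv'] at h
      rw [(D.φ_scale_d.inv hw) D.ω, (D.x12_scale_d.inv hw) 1, inv_mul_cancel₀ hw, mul_one] at h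
      refine ⟨_, h, inv_ne_zero hw, fun e => omega_ne_one R h4 ?_⟩
      rw [← inv_inv D.ω, e, inv_one]
  rcases eq_or_ne a 0 with rfl | ha
  · simpa [D.φ_zero] using x12_mem_Q R b
  obtain ⟨i, rfl⟩ := D.hω a ha
  have hmem : (D.ω ^ i)⁻¹ * b ∈ S := by rw [hS]; trivial
  have h := T_conj_Q R (pow_mem D.d_mem i) hmem
  rw [conj_mul', conj_inv'] at h
  rw [(D.φ_scale_d.pow i) 1, (D.x12_scale_d.pow i) _, mul_one, mul_inv_cancel_left₀ (pow_ne_zero _ hw)] at h
  exact h
where
  conj_mul' {g x y z : G} : g * (x * y * z) * g⁻¹ = (g * x * g⁻¹) * (g * y * g⁻¹) * (g * z * g⁻¹) := by group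
  conj_inv' {g x : G} : g * x⁻¹ * g⁻¹ = (g * x * g⁻¹)⁻¹ := by group

end Data

end Cfsg.Agent.Lib.SL3Presentation
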