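import Mathlib
import Cfsg.Agent.Lib.SL3Presentation.Bound

/-!
The order bound.
-/

set_option autoImplicit false

namespace Cfsg.Agent.Lib.SL3Presentation

open scoped Pointwise

namespace Data

variable {F : Type*} [Field F] [Fintype F] {G : Type*} [Group G] {D : Data F G}

omit [Fintype F] in
theorem t_inv (D : Data F G) : D.t⁻¹ = D.t * D.τ :=
  inv_eq_of_mul_eq_one_right (by rw [← mul_assoc, D.t_sq, D.τ_sq])

omit [Fintype F] in
theorem t_inv_conj (D : Data F G) (x : G) : D.t⁻¹ * x * D.t = D.t * (D.τ * x * D.τ⁻¹) * D.t⁻¹ := by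
  have h : D.t = D.τ⁻¹ * D.t⁻¹ := by rw [← mul_inv_rev, ← t_inv, inv_inv]
  conv_lhs => arg 2; rw [h]
  rw [t_inv]; group

variable (D) in
/-- The rank one Levi subgroup. -/
def L : Subgroup G := Subgroup.closure ((D.T : Set G) ∪ Set.range D.φ ∪ {D.t})

theorem T_le_L : D.T ≤ D.L := fun _ hx => Subgroup.subset_closure (Or.inl (Or.inl hx))
theorem φ_mem_L (a : F) : D.φ a ∈ D.L := Subgroup.subset_closure (Or.inl (Or.inr ⟨a, rfl⟩))
theorem t_mem_L : D.t ∈ D.L := Subgroup.subset_closure (Or.inr rfl)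

theorem φ_T {g : G} (hg : g ∈ D.T) (a : F) : ∃ a', D.φ a * g = g * D.φ a' := by
  obtain ⟨a', h⟩ := D.T_φ (inv_mem hg) a
  exact ⟨a', by rw [← h]; group⟩

theorem T_mem_union (x : G) (hx : x ∈ D.L) :
    (∃ h ∈ D.T, ∃ a, x = h * D.φ a) ∨ ∃ h ∈ D.T, ∃ a b, x = h * D.φ a * D.t * D.φ b := by
  let ok : G → Prop := fun x =>
    (∃ h ∈ D.T, ∃ a, x = h * D.φ a) ∨ ∃ h ∈ D.T, ∃ a b, x = h * D.φ a * D.t * D.φ b
  have mulφ : ∀ x, ok x → ∀ a, ok (x * D.φ a) := by
    rintro x (⟨h, hh, a, rfl⟩ | ⟨h, hh, a, b, rfl⟩) e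
    · exact Or.inl ⟨h, hh, a + e, by rw [D.φ_add]; group⟩
    · exact Or.inr ⟨h, hh, a, b + e, by rw [D.φ_add]; group⟩
  have mulT : ∀ x, ok x → ∀ g ∈ D.T, ok (x * g) := by
    rintro x (⟨h, hh, a, rfl⟩ | ⟨h, hh, a, b, rfl⟩) g hg
    · obtain ⟨a', ha'⟩ := φ_T hg a
      exact Or.inl ⟨h * g, mul_mem hh hg, a', by rw [mul_assoc, ha']; group⟩
    · obtain ⟨b', hb'⟩ := φ_T hg b
      have hg' : D.t * g * D.t⁻¹ ∈ D.T := D.t_conj_T hg
      obtain ⟨a', ha'⟩ := φ_T hg' a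
      refine Or.inr ⟨h * (D.t * g * D.t⁻¹), mul_mem hh hg', a', b', ?_⟩
      calc h * D.φ a * D.t * D.φ b * g = h * D.φ a * D.t * (D.φ b * g) := by group
        _ = h * (D.φ a * (D.t * g * D.t⁻¹)) * D.t * D.φ b' := by rw [hb']; group
        _ = _ := by rw [ha']; group
  have mult : ∀ x, ok x → ok (x * D.t) := by
    rintro x (⟨h, hh, a, rfl⟩ | ⟨h, hh, a, b, rfl⟩)
    · exact Or.inr ⟨h, hh, a, 0, by rw [D.φ_zero, mul_one]⟩
    · rcases eq_or_ne b 0 with rfl | hb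
      · rw [D.φ_zero, mul_one, mul_assoc, D.t_sq]
        exact mulT _ (Or.inl ⟨h, hh, a, rfl⟩) _ D.τ_mem
      · obtain ⟨h1, hh1, b1, b2, he⟩ := D.t_φ hb
        have e : h * D.φ a * D.t * D.φ b * D.t = h * D.φ a * (D.t * D.φ b * D.t⁻¹) * (D.t * D.t) := by group
        rw [e, he, D.t_sq]
        obtain ⟨a', ha'⟩ := φ_T hh1 a
        refine mulT _ (Or.inr ⟨h * h1, mul_mem hh hh1, a' + b1, b2, ?_⟩) _ D.τ_mem
        rw [D.φ_add, show h * D.φ a * (h1 * D.φ b1 * D.t * D.φ b2) = h * (D.φ a * h1) * D.φ b1 * D.t * D.φ b2 by group, ha']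
        group
  induction hx using Subgroup.closure_induction_right with
  | one => exact Or.inl ⟨1, one_mem _, 0, by simp [D.φ_zero]⟩
  | mul_right x _ y hy ih =>
    rcases hy with (hy | ⟨a, rfl⟩) | rfl
    · exact mulT x ih y hy
    · exact mulφ x ih a
    · exact mult x ih
  | mul_inv_cancel x _ y hy ih =>
    rcases hy with (hy | ⟨a, rfl⟩) | rfl
    · exact mulT x ih _ (inv_mem hy)
    · rw [← D.φ_neg]; exact mulφ x ih _
    · rw [t_inv, ← mul_assoc]; exact mulT _ (mult x ih) _ D.τ_mem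

theorem T_bound : (D.T : Set G).Finite ∧ Nat.card D.T ≤ D.N * D.N ∨ D.N = 0 := by
  rcases Nat.eq_zero_or_pos D.N with h | hN
  · exact Or.inr h
  left
  have hd1 : D.d1 ^ D.N = 1 := by rw [d1, conj_pow, D.d_pow]; group
  set A := Subgroup.zpowers D.d
  set B := Subgroup.zpowers D.d1
  have hfA : (A : Set G).Finite := (isOfFinOrder_iff_pow_eq_one.mpr ⟨_, hN, D.d_pow⟩).finite_zpowers
  have hfB : (B : Set G).Finite := (isOfFinOrder_iff_pow_eq_one.mpr ⟨_, hN, hd1⟩).finite_zpowers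
  have hnorm : A ≤ Subgroup.normalizer (B : Set G) := by
    refine le_trans ?_ (Subgroup.centralizer_le_normalizer _)
    rw [Subgroup.zpowers_le, Subgroup.mem_centralizer_iff]
    rintro _ ⟨j, rfl⟩
    exact (D.d_d1.symm.zpow_left j).eq
  have hmul : ((A ⊔ B : Subgroup G) : Set G) = (A : Set G) * (B : Set G) :=
    Subgroup.coe_mul_of_left_le_normalizer_right A B hnorm
  have hle : D.T ≤ A ⊔ B := by
    rw [T, Subgroup.closure_le]
    intro z hz
    simp only [Set.mem_insert_iff, Set.mem_singleton_iff] at hz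
    have h0 : D.d ∈ A ⊔ B := Subgroup.mem_sup_left (Subgroup.mem_zpowers _)
    have h1 : D.d1 ∈ A ⊔ B := Subgroup.mem_sup_right (Subgroup.mem_zpowers _)
    rcases hz with rfl | rfl | rfl
    exacts [h0, h1, D.d2_eq ▸ inv_mem (mul_mem h0 h1)]
  have hsub : (D.T : Set G) ⊆ (A : Set G) * (B : Set G) := hmul ▸ hle
  refine ⟨(hfA.mul hfB).subset hsub, ?_⟩
  calc Nat.card D.T ≤ Nat.card ((A : Set G) * (B : Set G) : Set G) := Nat.card_mono (hfA.mul hfB) hsub
    _ ≤ Nat.card (A : Set G) * Nat.card (B : Set G) := Set.natCard_mul_le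
    _ ≤ D.N * D.N := by
      show Nat.card (Subgroup.zpowers D.d) * Nat.card (Subgroup.zpowers D.d1) ≤ _
      rw [Nat.card_zpowers, Nat.card_zpowers]
      exact Nat.mul_le_mul (orderOf_le_of_pow_eq_one hN D.d_pow) (orderOf_le_of_pow_eq_one hN hd1)

theorem L_bound (hT : (D.T : Set G).Finite) :
    (D.L : Set G).Finite ∧
      Nat.card D.L ≤ Nat.card D.T * Fintype.card F + Nat.card D.T * (Fintype.card F * Fintype.card F) := by
  haveI : Finite D.T := hT.to_subtype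
  let f1 : D.T × F → G := fun p => (p.1 : G) * D.φ p.2
  let f2 : D.T × F × F → G := fun p => (p.1 : G) * D.φ p.2.1 * D.t * D.φ p.2.2
  have hsub : (D.L : Set G) ⊆ Set.range f1 ∪ Set.range f2 := by
    intro x hx
    rcases T_mem_union x hx with ⟨h, hh, a, rfl⟩ | ⟨h, hh, a, b, rfl⟩
    · exact Or.inl ⟨(⟨h, hh⟩, a), rfl⟩
    · exact Or.inr ⟨(⟨h, hh⟩, a, b), rfl⟩
  have hfin : (Set.range f1 ∪ Set.range f2).Finite := (Set.finite_range _).union (Set.finite_range _)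
  refine ⟨hfin.subset hsub, ?_⟩
  calc Nat.card D.L ≤ Nat.card (Set.range f1 ∪ Set.range f2 : Set G) := Nat.card_mono hfin hsub
    _ ≤ Nat.card (Set.range f1) + Nat.card (Set.range f2) := by
      simp only [Nat.card_coe_set_eq]; exact Set.ncard_union_le _ _
    _ ≤ Nat.card (D.T × F) + Nat.card (D.T × F × F) :=
      Nat.add_le_add (Finite.card_range_le _) (Finite.card_range_le _)
    _ = _ := by simp [Nat.card_prod, Nat.card_eq_fintype_card (α := F)]

variable (R : D.Rels)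
include R

theorem L_normalizes_Q : D.L ≤ Subgroup.normalizer ((Q R : Subgroup G) : Set G) := by
  have hx12 : ∀ a b, D.φ a * D.x12 b * (D.φ a)⁻¹ ∈ Q R := comm_mem R
  have main : ∀ g ∈ D.L, ∀ x ∈ Q R, g * x * g⁻¹ ∈ Q R := by
    intro g hg
    induction hg using Subgroup.closure_induction'' with
    | mem g hg =>
      rintro x hxQ
      rcases hg with (hg | ⟨a, rfl⟩) | rfl
      · exact T_conj_Q R hg hxQ
      · obtain ⟨b, e, rfl⟩ := hxQ
        rw [← conj_mul]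
        exact (Q R).mul_mem (hx12 a b) (by rw [(row_all R a e).eq, mul_inv_cancel_right]; exact x02_mem_Q R e)
      · obtain ⟨b, e, rfl⟩ := hxQ
        obtain ⟨b', hb'⟩ := D.t_x12 b
        obtain ⟨e', he'⟩ := D.t_x02 e
        rw [← conj_mul, hb', he']
        exact (Q R).mul_mem (x02_mem_Q R _) (x12_mem_Q R _)
    | inv_mem g hg =>
      rintro x hxQ
      rcases hg with (hg | ⟨a, rfl⟩) | rfl
      · exact T_conj_Q R (inv_mem hg) hxQ
      · obtain ⟨b, e, rfl⟩ := hxQ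
        rw [← D.φ_neg, ← conj_mul]
        exact (Q R).mul_mem (hx12 (-a) b) (by rw [(row_all R (-a) e).eq, mul_inv_cancel_right]; exact x02_mem_Q R e)
      · have h1 := T_conj_Q R D.τ_mem hxQ
        obtain ⟨b, e, hbe⟩ := h1
        obtain ⟨b', hb'⟩ := D.t_x12 b
        obtain ⟨e', he'⟩ := D.t_x02 e
        rw [inv_inv, t_inv_conj, hbe, ← conj_mul, hb', he']
        exact (Q R).mul_mem (x02_mem_Q R _) (x12_mem_Q R _)
    | one => intro x hx; simpa using hx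
    | mul g h _ _ ihg ihh =>
      intro x hx
      rw [show g * h * x * (g * h)⁻¹ = g * (h * x * h⁻¹) * g⁻¹ by group]
      exact ihg _ (ihh _ hx)
  intro g hg
  rw [Subgroup.mem_normalizer_iff]
  intro x
  refine ⟨main g hg x, fun hx => ?_⟩
  have := main g⁻¹ (inv_mem hg) _ hx
  simpa [mul_assoc] using this

/-- The parabolic subgroup. -/
def P : Subgroup G := D.L ⊔ Q R

theorem L_le_P : D.L ≤ P R := le_sup_left
theorem Q_le_P : Q R ≤ P R := le_sup_right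

theorem P_bound (hT : (D.T : Set G).Finite) :
    (P R : Set G).Finite ∧ Nat.card (P R) ≤ Nat.card D.L * (Fintype.card F * Fintype.card F) := by
  have hmul : ((P R : Subgroup G) : Set G) = (D.L : Set G) * (Q R : Set G) :=
    Subgroup.coe_mul_of_left_le_normalizer_right _ _ (L_normalizes_Q R)
  let f : F × F → G := fun p => D.x12 p.1 * D.x02 p.2
  have hQsub : ((Q R : Subgroup G) : Set G) ⊆ Set.range f := by
    rintro x ⟨b, e, rfl⟩; exact ⟨(b, e), rfl⟩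
  have hQfin : ((Q R : Subgroup G) : Set G).Finite := (Set.finite_range f).subset hQsub
  refine ⟨hmul ▸ (L_bound hT).1.mul hQfin, ?_⟩
  show Nat.card ((P R : Subgroup G) : Set G) ≤ _
  rw [hmul]
  refine le_trans Set.natCard_mul_le (Nat.mul_le_mul_left _ ?_)
  calc Nat.card ((Q R : Subgroup G) : Set G) ≤ Nat.card (Set.range f) := Nat.card_mono (Set.finite_range f) hQsub
    _ ≤ Nat.card (F × F) := Finite.card_range_le _
    _ = _ := by simp [Nat.card_prod, Nat.card_eq_fintype_card (α := F)]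

/-- the coset of `g` -/
def cls (g : G) : G ⧸ P R := QuotientGroup.mk g

theorem cls_mul {g x : G} (hx : x ∈ P R) : cls R (g * x) = cls R g :=
  QuotientGroup.eq.mpr (by simpa [mul_assoc] using (P R).inv_mem hx)

/-- the orbit -/
def Ω₀ : Set (G ⧸ P R) :=
  {cls R 1} ∪ Set.range (fun b => cls R (D.x12 b * (D.t * D.c))) ∪
    Set.range (fun p : F × F => cls R (D.φ p.1 * D.x02 p.2 * D.c))

theorem one_mem_Ω : cls R 1 ∈ Ω₀ R := Or.inl (Or.inl rfl)
theorem mid_mem_Ω (b : F) : cls R (D.x12 b * (D.t * D.c)) ∈ Ω₀ R := Or.inl (Or.inr ⟨b, rfl⟩)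
theorem big_mem_Ω (a e : F) : cls R (D.φ a * D.x02 e * D.c) ∈ Ω₀ R := Or.inr ⟨(a, e), rfl⟩

theorem smul_cls (g h : G) : g • cls R h = cls R (g * h) := rfl

theorem T_stab {g : G} (hg : g ∈ D.T) {ω : G ⧸ P R} (hω : ω ∈ Ω₀ R) : g • ω ∈ Ω₀ R := by
  rcases hω with (rfl | ⟨b, rfl⟩) | ⟨⟨a, e⟩, rfl⟩
  · rw [smul_cls, mul_one, ← one_mul g, cls_mul R (L_le_P R (T_le_L hg))]
    exact one_mem_Ω R
  · obtain ⟨b', hb'⟩ := D.T_x12 hg b
    have hgT : D.c⁻¹ * (D.t⁻¹ * g * D.t) * D.c ∈ D.T := by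
      refine D.c_inv_conj_T ?_
      rw [t_inv_conj]
      exact D.t_conj_T (mul_mem (mul_mem D.τ_mem hg) (inv_mem D.τ_mem))
    rw [smul_cls, show g * (D.x12 b * (D.t * D.c)) =
      (g * D.x12 b * g⁻¹) * (D.t * D.c) * (D.c⁻¹ * (D.t⁻¹ * g * D.t) * D.c) by group,
      cls_mul R (L_le_P R (T_le_L hgT)), hb']
    exact mid_mem_Ω R b'
  · obtain ⟨a', ha'⟩ := D.T_φ hg a
    obtain ⟨e', he'⟩ := D.T_x02 hg e
    rw [smul_cls, show g * (D.φ (a, e).1 * D.x02 (a, e).2 * D.c) =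
      (g * D.φ a * g⁻¹) * (g * D.x02 e * g⁻¹) * D.c * (D.c⁻¹ * g * D.c) by simp only; group,
      cls_mul R (L_le_P R (T_le_L (D.c_inv_conj_T hg))), ha', he']
    exact big_mem_Ω R a' e'

theorem φ_mid (a b : F) : ∃ b', D.φ a • cls R (D.x12 b * (D.t * D.c)) = cls R (D.x12 b' * (D.t * D.c)) := by
  obtain ⟨b', e, hb'⟩ := comm_mem R a b
  refine ⟨b', ?_⟩
  have h1 : D.c⁻¹ * (D.t⁻¹ * D.φ a * D.t) * D.c ∈ P R := by
    rw [t_inv_conj, D.τ_scale_φ, one_mul]
    have : D.t * D.φ a * D.t⁻¹ = D.x10 (-a) := by simp [x10]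
    rw [this, c_inv, show D.c ^ 2 * D.x10 (-a) * D.c = D.c ^ 2 * D.x10 (-a) * (D.c ^ 2)⁻¹ by
      rw [← D.c_inv, inv_inv]]
    exact Q_le_P R (x02_mem_Q R _)
  have h2 : D.c⁻¹ * (D.t⁻¹ * D.x02 e * D.t) * D.c ∈ P R := by
    obtain ⟨e1, he1⟩ := D.T_x02 D.τ_mem e
    obtain ⟨e2, he2⟩ := D.t_x02 e1
    rw [t_inv_conj, he1, he2, x12, show D.c⁻¹ * (D.c * D.φ e2 * D.c⁻¹) * D.c = D.φ e2 by group]
    exact L_le_P R (φ_mem_L _)
  rw [smul_cls, show D.φ a * (D.x12 b * (D.t * D.c)) =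
      (D.φ a * D.x12 b * (D.φ a)⁻¹) * (D.t * D.c) * (D.c⁻¹ * (D.t⁻¹ * D.φ a * D.t) * D.c) by group,
    cls_mul R h1, hb',
    show D.x12 b' * D.x02 e * (D.t * D.c) =
      D.x12 b' * (D.t * D.c) * (D.c⁻¹ * (D.t⁻¹ * D.x02 e * D.t) * D.c) by group, cls_mul R h2]

theorem φ_stab (a : F) {ω : G ⧸ P R} (hω : ω ∈ Ω₀ R) : D.φ a • ω ∈ Ω₀ R := by
  rcases hω with (rfl | ⟨b, rfl⟩) | ⟨⟨a', e⟩, rfl⟩
  · rw [smul_cls, mul_one, ← one_mul (D.φ a), cls_mul R (L_le_P R (φ_mem_L a))]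
    exact one_mem_Ω R
  · obtain ⟨b', hb'⟩ := φ_mid R a b
    show D.φ a • cls R _ ∈ _
    rw [hb']; exact mid_mem_Ω R b'
  · rw [smul_cls, show D.φ a * (D.φ (a', e).1 * D.x02 (a', e).2 * D.c) = D.φ (a + a') * D.x02 e * D.c by
      rw [D.φ_add]; group]
    exact big_mem_Ω R _ _

theorem x12_stab (b : F) {ω : G ⧸ P R} (hω : ω ∈ Ω₀ R) : D.x12 b • ω ∈ Ω₀ R := by
  rcases hω with (rfl | ⟨b', rfl⟩) | ⟨⟨a, e⟩, rfl⟩
  · rw [smul_cls, mul_one, ← one_mul (D.x12 b), cls_mul R (Q_le_P R (x12_mem_Q R b))]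
    exact one_mem_Ω R
  · rw [smul_cls, ← mul_assoc, ← D.x12_add]
    exact mid_mem_Ω R _
  · obtain ⟨b1, e1, h1⟩ := comm_mem R (-a) b
    rw [D.φ_neg, inv_inv] at h1
    rw [smul_cls, show D.x12 b * (D.φ (a, e).1 * D.x02 (a, e).2 * D.c) =
        D.φ a * ((D.φ a)⁻¹ * D.x12 b * D.φ a) * D.x02 e * D.c by simp only; group, h1,
      show D.φ a * (D.x12 b1 * D.x02 e1) * D.x02 e * D.c = D.φ a * (D.x12 b1 * D.x02 (e1 + e)) * D.c by
        rw [D.x02_add]; group,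
      (col_all R b1 (e1 + e)).eq,
      show D.φ a * (D.x02 (e1 + e) * D.x12 b1) * D.c = D.φ a * D.x02 (e1 + e) * D.c * D.φ b1 by
        simp only [x12]; group,
      cls_mul R (L_le_P R (φ_mem_L b1))]
    exact big_mem_Ω R _ _

theorem t_mid (b : F) : D.t • cls R (D.x12 b * (D.t * D.c)) ∈ Ω₀ R := by
  obtain ⟨b', hb'⟩ := D.t_x12 b
  rw [smul_cls, show D.t * (D.x12 b * (D.t * D.c)) =
      (D.t * D.x12 b * D.t⁻¹) * D.c * (D.c⁻¹ * (D.t * D.t) * D.c) by group,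
    cls_mul R (L_le_P R (T_le_L (D.c_inv_conj_T (by rw [D.t_sq]; exact D.τ_mem)))), hb',
    ← one_mul (D.x02 b'), ← D.φ_zero]
  exact big_mem_Ω R _ _

theorem t_stab {ω : G ⧸ P R} (hω : ω ∈ Ω₀ R) : D.t • ω ∈ Ω₀ R := by
  rcases hω with (rfl | ⟨b, rfl⟩) | ⟨⟨a, e⟩, rfl⟩
  · rw [smul_cls, mul_one, ← one_mul D.t, cls_mul R (L_le_P R t_mem_L)]
    exact one_mem_Ω R
  · exact t_mid R b
  · obtain ⟨e', he'⟩ := D.t_x02 e
    have key : D.t • cls R (D.x02 e * D.c) = cls R (D.x12 e' * (D.t * D.c)) := by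
      rw [smul_cls, ← he']; congr 1; group
    show D.t • cls R (D.φ a * D.x02 e * D.c) ∈ _
    rcases eq_or_ne a 0 with rfl | ha
    · rw [D.φ_zero, one_mul, key]; exact mid_mem_Ω R e'
    · obtain ⟨h, hh, a1, a2, he⟩ := D.t_φ ha
      obtain ⟨b'', hb''⟩ := φ_mid R a2 e'
      have : D.t • cls R (D.φ a * D.x02 e * D.c) = h • D.φ a1 • D.t • D.φ a2 • D.t • cls R (D.x02 e * D.c) := by
        simp only [smul_cls]
        congr 1
        rw [show D.t * (D.φ a * D.x02 e * D.c) = (D.t * D.φ a * D.t⁻¹) * (D.t * (D.x02 e * D.c)) by group, he]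
        group
      rw [this, key, hb'']
      exact T_stab R hh (φ_stab R _ (t_mid R b''))

theorem x10_stab (a : F) {ω : G ⧸ P R} (hω : ω ∈ Ω₀ R) : D.x10 a • ω ∈ Ω₀ R := by
  rw [x10, t_inv, mul_smul, mul_smul, mul_smul]
  exact t_stab R (φ_stab R _ (t_stab R (T_stab R D.τ_mem hω)))

theorem ctc_mem : D.c * D.t * D.c ∈ P R := by
  have h1 : D.c⁻¹ * D.τ * D.c ∈ D.T := D.c_inv_conj_T D.τ_mem
  have e : D.c * D.t * D.c = D.t⁻¹ * D.τ * (D.c⁻¹ * D.τ * D.c)⁻¹ := by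
    have h2 : D.t * D.c * (D.t * D.τ) * D.c = D.τ := by rw [← t_inv]; exact D.t_c
    calc D.c * D.t * D.c = D.t⁻¹ * (D.t * D.c * (D.t * D.τ) * D.c) * (D.c⁻¹ * D.τ * D.c)⁻¹ := by group
      _ = _ := by rw [h2]
  rw [e]
  exact mul_mem (mul_mem (inv_mem (L_le_P R t_mem_L)) (L_le_P R (T_le_L D.τ_mem)))
    (inv_mem (L_le_P R (T_le_L h1)))

theorem c_stab {ω : G ⧸ P R} (hω : ω ∈ Ω₀ R) : D.c • ω ∈ Ω₀ R := by
  rcases hω with (rfl | ⟨b, rfl⟩) | ⟨⟨a, e⟩, rfl⟩
  · rw [smul_cls, mul_one, show D.c = D.φ 0 * D.x02 0 * D.c by simp [D.φ_zero, D.x02_zero]]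
    exact big_mem_Ω R 0 0
  · rw [smul_cls, show D.c * (D.x12 b * (D.t * D.c)) =
      (D.c ^ 2 * D.φ b * (D.c ^ 2)⁻¹) * (D.c * D.t * D.c) by simp only [x12, pow_two]; group,
      cls_mul R (ctc_mem R)]
    rcases eq_or_ne b 0 with rfl | hb
    · simpa [D.φ_zero] using one_mem_Ω R
    obtain ⟨h, hh, b1, b2, he⟩ := D.φ_decomp hb
    have e1 : (D.c ^ 2)⁻¹ = D.c := by rw [← D.c_inv, inv_inv]
    rw [he, show D.c ^ 2 * (h * D.x10 b1 * D.t * D.x10 b2) * (D.c ^ 2)⁻¹ =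
        (D.c ^ 2 * h * (D.c ^ 2)⁻¹) * (D.x02 b1 * (D.c ^ 2 * D.t * (D.c ^ 2)⁻¹)) * D.x02 b2 by
        simp only [x02]; group,
      cls_mul R (Q_le_P R (x02_mem_Q R b2)), e1,
      show D.c ^ 2 * h * D.c * (D.x02 b1 * (D.c ^ 2 * D.t * D.c)) =
        (D.c ^ 2 * h * D.c) * (D.x02 b1 * D.c) * (D.c * D.t * D.c) by simp only [pow_two]; group,
      cls_mul R (ctc_mem R), ← smul_cls]
    refine T_stab R ?_ ?_
    · have := D.c_sq_conj_T hh
      rwa [e1] at this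
    · rw [show D.x02 b1 * D.c = D.φ 0 * D.x02 b1 * D.c by simp [D.φ_zero]]
      exact big_mem_Ω R _ _
  · have e10 : D.c * D.x02 e * D.c⁻¹ = D.x10 e := by
      simp only [x02]
      calc D.c * (D.c ^ 2 * D.x10 e * (D.c ^ 2)⁻¹) * D.c⁻¹
          = (D.c * D.c ^ 2) * D.x10 e * (D.c * D.c ^ 2)⁻¹ := by group
        _ = D.x10 e := by rw [D.c_three]; simp
    have hcc : cls R (D.c * D.c) ∈ Ω₀ R := by
      have e2 : D.c * D.c = D.τ⁻¹ * (D.t * D.c) * D.t⁻¹ := by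
        rw [← pow_two, ← D.c_inv, show D.c⁻¹ = D.τ⁻¹ * (D.τ * D.c⁻¹) by group, ← D.t_c']
        group
      rw [e2, cls_mul R (inv_mem (L_le_P R t_mem_L)), ← smul_cls]
      refine T_stab R (inv_mem D.τ_mem) ?_
      rw [show D.t * D.c = D.x12 0 * (D.t * D.c) by simp [D.x12_zero]]
      exact mid_mem_Ω R 0
    rw [smul_cls, show D.c * (D.φ (a, e).1 * D.x02 (a, e).2 * D.c) =
      D.x12 a * ((D.c * D.x02 e * D.c⁻¹) * (D.c * D.c)) by simp only [x12]; group, e10, ← smul_cls, ← smul_cls]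
    exact x12_stab R a (x10_stab R e hcc)

/-- A group generated by elements with the short relations is finite of order at most `|SL₃(F)|`. -/
theorem finite_and_card_le (hgen : Subgroup.closure {D.φ 1, D.t, D.c, D.d} = ⊤)
    (hN : D.N = Fintype.card F - 1) :
    Finite G ∧ Nat.card G ≤ (Fintype.card F - 1) * (Fintype.card F - 1) * Fintype.card F *
      (1 + Fintype.card F) * (Fintype.card F * Fintype.card F) *
      (1 + Fintype.card F + Fintype.card F * Fintype.card F) := by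
  set q := Fintype.card F
  have hq : 2 ≤ q := Fintype.one_lt_card
  obtain ⟨hTf, hTc⟩ := (T_bound (D := D)).resolve_right (by omega)
  obtain ⟨hPf, hPc⟩ := P_bound R hTf
  haveI : Finite (P R) := hPf.to_subtype
  have hfin : (Ω₀ R).Finite :=
    (((Set.finite_singleton _).union (Set.finite_range _)).union (Set.finite_range _))
  have hstab : ∀ g : G, ∀ ω ∈ Ω₀ R, g • ω ∈ Ω₀ R := by
    intro g
    have hg : g ∈ Subgroup.closure {D.φ 1, D.t, D.c, D.d} := hgen ▸ Subgroup.mem_top g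
    induction hg using Subgroup.closure_induction with
    | mem g hg =>
      intro ω hω
      rcases hg with rfl | rfl | rfl | rfl
      exacts [φ_stab R 1 hω, t_stab R hω, c_stab R hω, T_stab R D.d_mem hω]
    | one => intro ω hω; rwa [one_smul]
    | mul g h _ _ ihg ihh => intro ω hω; rw [mul_smul]; exact ihg _ (ihh _ hω)
    | inv g _ ih =>
      intro ω hω
      obtain ⟨ω', hω', he⟩ := (hfin.surjOn_iff_bijOn_of_mapsTo (f := (g • ·)) ih).2
        ⟨ih, (MulAction.injective g).injOn, by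
          exact ((hfin.injOn_iff_bijOn_of_mapsTo ih).1 (MulAction.injective g).injOn).surjOn⟩ hω
      simp only at he
      rw [← he, inv_smul_smul]; exact hω'
  have hall : ∀ x : G ⧸ P R, x ∈ Ω₀ R := by
    intro x
    induction x using QuotientGroup.induction_on with
    | H g =>
      have := hstab g _ (one_mem_Ω R)
      rwa [smul_cls, mul_one] at this
  haveI : Finite (G ⧸ P R) := by
    have := hfin.to_subtype
    exact Finite.of_surjective (fun x : Ω₀ R => (x : G ⧸ P R)) fun x => ⟨⟨x, hall x⟩, rfl⟩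
  refine ⟨Finite.of_equiv _ (Subgroup.groupEquivQuotientProdSubgroup (s := P R)).symm, ?_⟩
  rw [Subgroup.card_eq_card_quotient_mul_card_subgroup (P R)]
  have hΩ : Nat.card (G ⧸ P R) ≤ 1 + q + q * q := by
    rw [← Nat.card_univ]
    calc Nat.card (Set.univ : Set (G ⧸ P R)) ≤ Nat.card (Ω₀ R) := Nat.card_mono hfin fun x _ => hall x
      _ ≤ 1 + q + q * q := by
        simp only [Ω₀, Nat.card_coe_set_eq]
        refine le_trans (Set.ncard_union_le _ _) (Nat.add_le_add (le_trans (Set.ncard_union_le _ _)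
          (Nat.add_le_add (Set.ncard_singleton _).le ?_)) ?_)
        · rw [← Nat.card_coe_set_eq]
          exact le_trans (Finite.card_range_le _) (by simp [q, Nat.card_eq_fintype_card])
        · rw [← Nat.card_coe_set_eq]
          exact le_trans (Finite.card_range_le _) (by simp [q, Nat.card_eq_fintype_card])
  have hL := (L_bound (D := D) hTf).2
  have hT' : Nat.card D.T ≤ (q - 1) * (q - 1) := hN ▸ hTc
  calc Nat.card (G ⧸ P R) * Nat.card (P R) ≤ (1 + q + q * q) * (Nat.card D.L * (q * q)) :=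
        Nat.mul_le_mul hΩ hPc
    _ ≤ (1 + q + q * q) * (((q - 1) * (q - 1) * q + (q - 1) * (q - 1) * (q * q)) * (q * q)) :=
        Nat.mul_le_mul_left _ (Nat.mul_le_mul_right _ (le_trans hL (Nat.add_le_add
          (Nat.mul_le_mul_right _ hT') (Nat.mul_le_mul_right _ hT'))))
    _ = _ := by ring

end Data

end Cfsg.Agent.Lib.SL3Presentation
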