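import Mathlib
import Cfsg.Agent.Lib.LinGroup.Generation
import Cfsg.Agent.Lib.SL3Presentation.Orbit

/-!
The generators of `SL₃(F)` satisfy the short relations.
-/

set_option autoImplicit false

namespace Cfsg.Agent.Lib.SL3Presentation

open Matrix

variable {F : Type*} [Field F]

theorem sl3_ext {g h : SpecialLinearGroup (Fin 3) F} (e : (g : Matrix (Fin 3) (Fin 3) F) = h) : g = h :=
  Subtype.ext e

theorem sl3_coe_mul (g h : SpecialLinearGroup (Fin 3) F) :
    ((g * h : SpecialLinearGroup (Fin 3) F) : Matrix (Fin 3) (Fin 3) F) = (g : Matrix (Fin 3) (Fin 3) F) * h := rfl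

theorem sl3_coe_one : ((1 : SpecialLinearGroup (Fin 3) F) : Matrix (Fin 3) (Fin 3) F) = 1 := rfl

/-- `1 + a E₀₁` -/
def mU (a : F) : SpecialLinearGroup (Fin 3) F := ⟨!![1, a, 0; 0, 1, 0; 0, 0, 1], by simp [det_fin_three]⟩
/-- `1 + a E₁₂` -/
def mV (a : F) : SpecialLinearGroup (Fin 3) F := ⟨!![1, 0, 0; 0, 1, a; 0, 0, 1], by simp [det_fin_three]⟩
/-- `1 + a E₀₂` -/
def mZ (a : F) : SpecialLinearGroup (Fin 3) F := ⟨!![1, 0, a; 0, 1, 0; 0, 0, 1], by simp [det_fin_three]⟩
/-- `1 + a E₁₀` -/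
def mY (a : F) : SpecialLinearGroup (Fin 3) F := ⟨!![1, 0, 0; a, 1, 0; 0, 0, 1], by simp [det_fin_three]⟩
/-- the Weyl element -/
def mT : SpecialLinearGroup (Fin 3) F := ⟨!![0, 1, 0; -1, 0, 0; 0, 0, 1], by simp [det_fin_three]⟩
/-- the cyclic permutation -/
def mC : SpecialLinearGroup (Fin 3) F := ⟨!![0, 0, 1; 1, 0, 0; 0, 1, 0], by simp [det_fin_three]⟩
/-- the square of the cyclic permutation -/
def mC2 : SpecialLinearGroup (Fin 3) F := ⟨!![0, 1, 0; 0, 0, 1; 1, 0, 0], by simp [det_fin_three]⟩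
/-- the inverse of the Weyl element -/
def mTi : SpecialLinearGroup (Fin 3) F := ⟨!![0, -1, 0; 1, 0, 0; 0, 0, 1], by simp [det_fin_three]⟩
/-- a diagonal matrix -/
def mD (a b c : Fˣ) (h : a * b * c = 1) : SpecialLinearGroup (Fin 3) F :=
  ⟨!![(a : F), 0, 0; 0, (b : F), 0; 0, 0, (c : F)], by
    have e : (a : F) * b * c = 1 := by rw [← Units.val_mul, ← Units.val_mul, h, Units.val_one]
    simp [det_fin_three, e]⟩

theorem mU_add (a b : F) : mU a * mU b = mU (a + b) := by
  (apply sl3_ext; (try rw [pow_two]); simp only [sl3_coe_mul, sl3_coe_one]; ext i j); fin_cases i <;> fin_cases j <;> simp [mU, SpecialLinearGroup.coe_mul, mul_apply, Fin.sum_univ_three, add_comm]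
theorem mV_add (a b : F) : mV a * mV b = mV (a + b) := by
  (apply sl3_ext; (try rw [pow_two]); simp only [sl3_coe_mul, sl3_coe_one]; ext i j); fin_cases i <;> fin_cases j <;> simp [mV, SpecialLinearGroup.coe_mul, mul_apply, Fin.sum_univ_three, add_comm]
theorem mZ_add (a b : F) : mZ a * mZ b = mZ (a + b) := by
  (apply sl3_ext; (try rw [pow_two]); simp only [sl3_coe_mul, sl3_coe_one]; ext i j); fin_cases i <;> fin_cases j <;> simp [mZ, SpecialLinearGroup.coe_mul, mul_apply, Fin.sum_univ_three, add_comm]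

theorem mU_zero : mU (0 : F) = 1 := by
  (apply sl3_ext; (try rw [pow_two]); simp only [sl3_coe_mul, sl3_coe_one]; ext i j); fin_cases i <;> fin_cases j <;> simp [mU]

theorem mU_inv (a : F) : (mU a)⁻¹ = mU (-a) :=
  inv_eq_of_mul_eq_one_right (by rw [mU_add, add_neg_cancel, mU_zero])
theorem mV_inv (a : F) : (mV a)⁻¹ = mV (-a) :=
  inv_eq_of_mul_eq_one_right (by
    (apply sl3_ext; (try rw [pow_two]); simp only [sl3_coe_mul, sl3_coe_one]; ext i j); fin_cases i <;> fin_cases j <;> simp [mV, SpecialLinearGroup.coe_mul, mul_apply, Fin.sum_univ_three])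

theorem mU_pow (a : F) (n : ℕ) : mU a ^ n = mU (n • a) := by
  induction n with
  | zero => simp [mU_zero]
  | succ n ih => rw [pow_succ, ih, mU_add, succ_nsmul]

theorem mD_mul (a b c a' b' c' : Fˣ) (h : a * b * c = 1) (h' : a' * b' * c' = 1)
    (h'' : a * a' * (b * b') * (c * c') = 1) :
    mD a b c h * mD a' b' c' h' = mD (a * a') (b * b') (c * c') h'' := by
  (apply sl3_ext; (try rw [pow_two]); simp only [sl3_coe_mul, sl3_coe_one]; ext i j); fin_cases i <;> fin_cases j <;> simp [mD, SpecialLinearGroup.coe_mul, mul_apply, Fin.sum_univ_three]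

theorem mD_one : mD (1 : Fˣ) 1 1 (by simp) = 1 := by
  (apply sl3_ext; (try rw [pow_two]); simp only [sl3_coe_mul, sl3_coe_one]; ext i j); fin_cases i <;> fin_cases j <;> simp [mD]

theorem mD_inv (a b c : Fˣ) (h : a * b * c = 1) :
    (mD a b c h)⁻¹ = mD a⁻¹ b⁻¹ c⁻¹ (by rw [← mul_inv, ← mul_inv, h, inv_one]) :=
  inv_eq_of_mul_eq_one_right (by
    (apply sl3_ext; (try rw [pow_two]); simp only [sl3_coe_mul, sl3_coe_one]; ext i j); fin_cases i <;> fin_cases j <;> simp [mD, SpecialLinearGroup.coe_mul, mul_apply, Fin.sum_univ_three])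

theorem mD_pow (a b c : Fˣ) (h : a * b * c = 1) (n : ℕ) :
    mD a b c h ^ n = mD (a ^ n) (b ^ n) (c ^ n) (by rw [← mul_pow, ← mul_pow, h, one_pow]) := by
  induction n with
  | zero => simp [mD_one]
  | succ n ih =>
    rw [pow_succ, ih]
    (apply sl3_ext; (try rw [pow_two]); simp only [sl3_coe_mul, sl3_coe_one]; ext i j); fin_cases i <;> fin_cases j <;> simp [mD, SpecialLinearGroup.coe_mul, mul_apply, Fin.sum_univ_three, pow_succ]

theorem mC_sq : (mC : SpecialLinearGroup (Fin 3) F) ^ 2 = mC2 := by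
  (apply sl3_ext; (try rw [pow_two]); simp only [sl3_coe_mul, sl3_coe_one]; ext i j); fin_cases i <;> fin_cases j <;> simp [mC, mC2, SpecialLinearGroup.coe_mul, mul_apply, Fin.sum_univ_three]

theorem mC_cube : (mC : SpecialLinearGroup (Fin 3) F) ^ 3 = 1 := by
  rw [pow_succ, mC_sq]
  (apply sl3_ext; (try rw [pow_two]); simp only [sl3_coe_mul, sl3_coe_one]; ext i j); fin_cases i <;> fin_cases j <;> simp [mC, mC2, SpecialLinearGroup.coe_mul, mul_apply, Fin.sum_univ_three]

theorem mC_conj_D (a b c : Fˣ) (h : a * b * c = 1) :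
    mC * mD a b c h * mC⁻¹ = mD c a b (by rw [← h]; ac_rfl) := by
  rw [mul_inv_eq_iff_eq_mul]
  (apply sl3_ext; (try rw [pow_two]); simp only [sl3_coe_mul, sl3_coe_one]; ext i j); fin_cases i <;> fin_cases j <;> simp [mC, mD, SpecialLinearGroup.coe_mul, mul_apply, Fin.sum_univ_three]

theorem mC_sq_conj_D (a b c : Fˣ) (h : a * b * c = 1) :
    mC ^ 2 * mD a b c h * (mC ^ 2)⁻¹ = mD b c a (by rw [← h]; ac_rfl) := by
  rw [show mC ^ 2 * mD a b c h * (mC ^ 2)⁻¹ = mC * (mC * mD a b c h * mC⁻¹) * mC⁻¹ by rw [pow_two]; group,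
    mC_conj_D, mC_conj_D]

theorem mC_conj_U (a : F) : mC * mU a * mC⁻¹ = mV a := by
  rw [mul_inv_eq_iff_eq_mul]
  (apply sl3_ext; (try rw [pow_two]); simp only [sl3_coe_mul, sl3_coe_one]; ext i j); fin_cases i <;> fin_cases j <;> simp [mC, mU, mV, SpecialLinearGroup.coe_mul, mul_apply, Fin.sum_univ_three]

theorem mD_conj_U (a b c : Fˣ) (h : a * b * c = 1) (x : F) :
    mD a b c h * mU x * (mD a b c h)⁻¹ = mU ((a : F) * (b : F)⁻¹ * x) := by
  rw [mul_inv_eq_iff_eq_mul]
  (apply sl3_ext; (try rw [pow_two]); simp only [sl3_coe_mul, sl3_coe_one]; ext i j); fin_cases i <;> fin_cases j <;> simp [mD, mU, SpecialLinearGroup.coe_mul, mul_apply, Fin.sum_univ_three]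
  field_simp

theorem mT_conj_D (a b c : Fˣ) (h : a * b * c = 1) :
    mT * mD a b c h * mT⁻¹ = mD b a c (by rw [← h]; ac_rfl) := by
  rw [mul_inv_eq_iff_eq_mul]
  (apply sl3_ext; (try rw [pow_two]); simp only [sl3_coe_mul, sl3_coe_one]; ext i j); fin_cases i <;> fin_cases j <;> simp [mT, mD, SpecialLinearGroup.coe_mul, mul_apply, Fin.sum_univ_three]

theorem mT_conj_U (a : F) : mT * mU a * mT⁻¹ = mY (-a) := by
  rw [mul_inv_eq_iff_eq_mul]
  (apply sl3_ext; (try rw [pow_two]); simp only [sl3_coe_mul, sl3_coe_one]; ext i j); fin_cases i <;> fin_cases j <;> simp [mT, mU, mY, SpecialLinearGroup.coe_mul, mul_apply, Fin.sum_univ_three]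

theorem mC_sq_conj_Y (a : F) : mC ^ 2 * mY a * (mC ^ 2)⁻¹ = mZ a := by
  rw [mul_inv_eq_iff_eq_mul, mC_sq]
  (apply sl3_ext; (try rw [pow_two]); simp only [sl3_coe_mul, sl3_coe_one]; ext i j); fin_cases i <;> fin_cases j <;> simp [mY, mZ, mC2, SpecialLinearGroup.coe_mul, mul_apply, Fin.sum_univ_three]

theorem mT_rel : mT * mU (1 : F) * mT⁻¹ = (mU 1)⁻¹ * mT * (mU 1)⁻¹ := by
  rw [mU_inv, mul_inv_eq_iff_eq_mul]
  (apply sl3_ext; (try rw [pow_two]); simp only [sl3_coe_mul, sl3_coe_one]; ext i j); fin_cases i <;> fin_cases j <;> simp [mT, mU, SpecialLinearGroup.coe_mul, mul_apply, Fin.sum_univ_three]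

theorem mT_C (h : (-1 : Fˣ) * -1 * 1 = 1) : mT * mC * mT⁻¹ * mC = mD (-1) (-1) 1 h := by
  have e : (mT : SpecialLinearGroup (Fin 3) F)⁻¹ = mTi :=
    inv_eq_of_mul_eq_one_right (by
      (apply sl3_ext; (try rw [pow_two]); simp only [sl3_coe_mul, sl3_coe_one]; ext i j); fin_cases i <;> fin_cases j <;> simp [mT, mTi, SpecialLinearGroup.coe_mul, mul_apply, Fin.sum_univ_three])
  rw [e]
  (apply sl3_ext; (try rw [pow_two]); simp only [sl3_coe_mul, sl3_coe_one]; ext i j); fin_cases i <;> fin_cases j <;> simp [mT, mTi, mC, mD, SpecialLinearGroup.coe_mul, mul_apply, Fin.sum_univ_three]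

theorem mU_mV (a b : F) : mU a * mV b * (mU a)⁻¹ * (mV b)⁻¹ = mZ (a * b) := by
  rw [mU_inv, mV_inv]
  (apply sl3_ext; (try rw [pow_two]); simp only [sl3_coe_mul, sl3_coe_one]; ext i j); fin_cases i <;> fin_cases j <;> simp [mU, mV, mZ, SpecialLinearGroup.coe_mul, mul_apply, Fin.sum_univ_three]

theorem mU_commute_mZ (a b : F) : Commute (mU a) (mZ b) := by
  show mU a * mZ b = mZ b * mU a
  (apply sl3_ext; (try rw [pow_two]); simp only [sl3_coe_mul, sl3_coe_one]; ext i j); fin_cases i <;> fin_cases j <;> simp [mU, mZ, SpecialLinearGroup.coe_mul, mul_apply, Fin.sum_univ_three]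

theorem mV_commute_mZ (a b : F) : Commute (mV a) (mZ b) := by
  show mV a * mZ b = mZ b * mV a
  (apply sl3_ext; (try rw [pow_two]); simp only [sl3_coe_mul, sl3_coe_one]; ext i j); fin_cases i <;> fin_cases j <;> simp [mV, mZ, SpecialLinearGroup.coe_mul, mul_apply, Fin.sum_univ_three]

theorem transvection_eq (i j : Fin 3) (hij : i ≠ j) (c : F) :
    ∃ a : F, SpecialLinearGroup.transvection hij c = mU a ∨ SpecialLinearGroup.transvection hij c = mC * mU a * mC⁻¹ ∨
      SpecialLinearGroup.transvection hij c = mC ^ 2 * mU a * (mC ^ 2)⁻¹ ∨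
      SpecialLinearGroup.transvection hij c = mT * mU a * mT⁻¹ ∨
      SpecialLinearGroup.transvection hij c = mC * (mT * mU a * mT⁻¹) * mC⁻¹ ∨
      SpecialLinearGroup.transvection hij c = mC ^ 2 * (mT * mU a * mT⁻¹) * (mC ^ 2)⁻¹ := by
  have hval : ((SpecialLinearGroup.transvection hij c : SpecialLinearGroup (Fin 3) F) : Matrix (Fin 3) (Fin 3) F) =
      Matrix.transvection i j c := rfl
  fin_cases i <;> fin_cases j <;> try (exact absurd rfl hij)
  · exact ⟨c, Or.inl (sl3_ext (by rw [hval]; ext a b; fin_cases a <;> fin_cases b <;> simp [mU, Matrix.transvection, Matrix.single]))⟩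
  · refine ⟨-c, ?_⟩; right; right; right; right; right
    rw [mT_conj_U, neg_neg, mC_sq_conj_Y]
    exact sl3_ext (by rw [hval]; ext a b; fin_cases a <;> fin_cases b <;> simp [mZ, Matrix.transvection, Matrix.single])
  · refine ⟨-c, ?_⟩; right; right; right; left
    rw [mT_conj_U, neg_neg]
    exact sl3_ext (by rw [hval]; ext a b; fin_cases a <;> fin_cases b <;> simp [mY, Matrix.transvection, Matrix.single])
  · refine ⟨c, ?_⟩; right; left
    rw [mC_conj_U]
    exact sl3_ext (by rw [hval]; ext a b; fin_cases a <;> fin_cases b <;> simp [mV, Matrix.transvection, Matrix.single])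
  · refine ⟨c, ?_⟩; right; right; left
    rw [eq_mul_inv_iff_mul_eq]
    exact sl3_ext (by rw [sl3_coe_mul, sl3_coe_mul, hval, mC_sq]; ext a b; fin_cases a <;> fin_cases b <;> simp [mU, mC2, Matrix.transvection, Matrix.single, SpecialLinearGroup.coe_mul, mul_apply, Fin.sum_univ_three])
  · refine ⟨-c, ?_⟩; right; right; right; right; left
    rw [mT_conj_U, neg_neg, eq_mul_inv_iff_mul_eq]
    exact sl3_ext (by rw [sl3_coe_mul, sl3_coe_mul, hval]; ext a b; fin_cases a <;> fin_cases b <;> simp [mY, mC, Matrix.transvection, Matrix.single, SpecialLinearGroup.coe_mul, mul_apply, Fin.sum_univ_three])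

/-- `u = mU 1`, `mD ω 1 ω⁻¹`, `mT` and `mC` generate. -/
theorem closure_eq_top {ω : Fˣ} (hω : ∀ x : F, x ≠ 0 → ∃ i : ℕ, (ω : F) ^ i = x) (h : ω * 1 * ω⁻¹ = 1) :
    Subgroup.closure {mU (1 : F), mT, mC, mD ω 1 ω⁻¹ h} = ⊤ := by
  set H := Subgroup.closure {mU (1 : F), mT, mC, mD ω 1 ω⁻¹ h}
  have hu : mU (1 : F) ∈ H := Subgroup.subset_closure (by simp)
  have ht : (mT : SpecialLinearGroup (Fin 3) F) ∈ H := Subgroup.subset_closure (by simp)
  have hc : (mC : SpecialLinearGroup (Fin 3) F) ∈ H := Subgroup.subset_closure (by simp)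
  have hd : mD ω 1 ω⁻¹ h ∈ H := Subgroup.subset_closure (by simp)
  have hU : ∀ a : F, mU a ∈ H := by
    intro a
    rcases eq_or_ne a 0 with rfl | ha
    · rw [mU_zero]; exact H.one_mem
    · obtain ⟨i, rfl⟩ := hω a ha
      have : mD ω 1 ω⁻¹ h ^ i * mU 1 * (mD ω 1 ω⁻¹ h ^ i)⁻¹ = mU ((ω : F) ^ i) := by
        rw [mD_pow, mD_conj_U]; simp
      rw [← this]
      exact mul_mem (mul_mem (pow_mem hd i) hu) (inv_mem (pow_mem hd i))
  refine LinGroup.eq_top_of_transvection_mem H fun i j hij c => ?_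
  obtain ⟨a, e | e | e | e | e | e⟩ := transvection_eq i j hij c <;> rw [e]
  · exact hU a
  · exact mul_mem (mul_mem hc (hU a)) (inv_mem hc)
  · exact mul_mem (mul_mem (pow_mem hc 2) (hU a)) (inv_mem (pow_mem hc 2))
  · exact mul_mem (mul_mem ht (hU a)) (inv_mem ht)
  · exact mul_mem (mul_mem hc (mul_mem (mul_mem ht (hU a)) (inv_mem ht))) (inv_mem hc)
  · exact mul_mem (mul_mem (pow_mem hc 2) (mul_mem (mul_mem ht (hU a)) (inv_mem ht))) (inv_mem (pow_mem hc 2))

end Cfsg.Agent.Lib.SL3Presentation
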